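import Groth.Agent.H19.LinearType
import Groth.Agent.Lib.Regular.Quotient
import Mathlib.RingTheory.Valuation.ValuationSubring
import Mathlib.RingTheory.FiniteType

/-!
An affine chart of the blow-up of a regular local ring at its closed point, contained in a
dominating valuation ring.
-/

set_option autoImplicit false
set_option linter.style.haveILetI false

universe u

open IsLocalRing MvPolynomial

namespace Groth.Agent.H4.RegExt.Blow

variable {R : Type u} [CommRing R] [IsRegularLocalRing R]

/-- A polynomial vanishing at the quotients of a regular system of parameters by one of them has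
all coefficients in the maximal ideal. -/
theorem coeff_mem_maximalIdeal {K : Type u} [Field K] [Algebra R K]
    (hRK : Function.Injective (algebraMap R K)) {n : ℕ} (a : Fin (n + 1) → R)
    (ha : Ideal.span (Set.range a) = maximalIdeal R) (hn : (maximalIdeal R).spanFinrank = n + 1)
    (t : Fin n → K) (ht : ∀ i, algebraMap R K (a 0) * t i = algebraMap R K (a i.succ))
    (F : MvPolynomial (Fin n) R) (hF : aeval t F = 0) (s : Fin n →₀ ℕ) :
    F.coeff s ∈ maximalIdeal R := by
  classical
  by_cases hs : s ∈ F.support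
  swap
  · rw [notMem_support_iff.mp hs]; exact zero_mem _
  let N := F.totalDegree
  have hdeg : ∀ s ∈ F.support, s.degree ≤ N := fun s hs => le_totalDegree hs
  let e : (Fin n →₀ ℕ) → (Fin (n + 1) →₀ ℕ) := fun s => Finsupp.cons (N - s.degree) s
  have hdege : ∀ s ∈ F.support, (e s).degree = N := fun s hs => by
    have h : (e s).degree = (N - s.degree) + s.degree := by
      simp only [e, Finsupp.degree_eq_sum, Fin.sum_univ_succ, Finsupp.cons_zero, Finsupp.cons_succ]
    rw [h, Nat.sub_add_cancel (hdeg s hs)]
  let H : MvPolynomial (Fin (n + 1)) R := ∑ s ∈ F.support, monomial (e s) (F.coeff s)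
  have hH : H.IsHomogeneous N :=
    IsHomogeneous.sum _ _ _ fun s hs => isHomogeneous_monomial _ (hdege s hs)
  have hev : eval a H = 0 := by
    apply hRK
    rw [map_zero]
    have hterm : ∀ s ∈ F.support, algebraMap R K (eval a (monomial (e s) (F.coeff s))) =
        algebraMap R K (a 0) ^ N * aeval t (monomial s (F.coeff s)) := by
      intro s hs
      rw [eval_monomial, aeval_monomial, map_mul, Finsupp.prod_fintype _ _ (fun _ => pow_zero _),
        Finsupp.prod_fintype _ _ (fun _ => pow_zero _), Fin.prod_univ_succ, map_mul, map_pow, map_prod]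
      simp only [e, Finsupp.cons_zero, Finsupp.cons_succ, map_pow, ← ht, mul_pow]
      rw [Finset.prod_mul_distrib, Finset.prod_pow_eq_pow_sum, ← Finsupp.degree_eq_sum,
        ← Nat.sub_add_cancel (hdeg s hs), pow_add, Nat.add_sub_cancel]
      ring
    rw [map_sum, map_sum, Finset.sum_congr rfl hterm, ← Finset.mul_sum, ← map_sum,
      support_sum_monomial_coeff, hF, mul_zero]
  have hreg : RingTheory.Sequence.IsWeaklyRegular R (List.ofFn a) :=
    (Lib.Regular.Quotient.isRegular_of_span_eq_maximalIdeal _
      (by rw [Ideal.ofList, ← ha]; congr 1; ext r; simp only [Set.mem_setOf_eq, List.mem_ofFn, Set.mem_range])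
      (by rw [List.length_ofFn, hn])).toIsWeaklyRegular
  have hmem := mem_map_C_iff.mp ((H19.LinearType.relIdeal_le_map_C a)
    (H19.LinearType.mem_relIdeal_of_eval_eq_zero a hreg hH hev)) (e s)
  rw [ha] at hmem
  have : H.coeff (e s) = F.coeff s := by
    rw [coeff_sum, Finset.sum_eq_single s ?_ (fun h => absurd hs h), coeff_monomial, if_pos rfl]
    intro s' hs' hne
    rw [coeff_monomial, if_neg]
    exact fun h => hne (Finsupp.ext fun i => by
      have := DFunLike.congr_fun h i.succ
      simpa [e] using this)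
  rwa [this] at hmem

/-- An affine blow-up chart inside a dominating valuation ring. -/
theorem exists_chart {K : Type u} [Field K] [Algebra R K]
    (hRK : Function.Injective (algebraMap R K)) {n : ℕ}
    (hn : (maximalIdeal R).spanFinrank = n + 1) (V : ValuationSubring K)
    (hV : ∀ r, algebraMap R K r ∈ V) :
    ∃ (x : R) (B : Subalgebra R K) (π : B →+* MvPolynomial (Fin n) (ResidueField R)),
      x ∈ maximalIdeal R ∧ x ≠ 0 ∧ IsNoetherianRing B ∧ (∀ b : B, (b : K) ∈ V) ∧
      Function.Surjective π ∧ π.comp (algebraMap R B) = C.comp (residue R) ∧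
      RingHom.ker π = Ideal.span {algebraMap R B x} ∧
      ∀ g ∈ maximalIdeal R, ∃ g' : B, algebraMap R K g = algebraMap R K x * (g' : K) := by
  classical
  obtain ⟨s, hs, hsf, hsc⟩ : ∃ s : Set R, Ideal.span s = maximalIdeal R ∧ s.Finite ∧
      s.ncard = (maximalIdeal R).spanFinrank :=
    ⟨_, Submodule.span_generators _, Submodule.FG.finite_generators (Ideal.fg_of_isNoetherianRing _),
      Submodule.FG.generators_ncard (Ideal.fg_of_isNoetherianRing _)⟩
  let e : Fin (n + 1) ≃ s :=
    ((Fintype.equivFinOfCardEq (α := hsf.toFinset)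
      (by rw [Fintype.card_coe, ← Set.ncard_eq_toFinset_card _ hsf, hsc, hn])).symm).trans
      (Equiv.subtypeEquivRight fun r => hsf.mem_toFinset)
  obtain ⟨i₀, -, hi₀⟩ := Finset.exists_max_image (Finset.univ : Finset (Fin (n + 1)))
    (fun i => V.valuation (algebraMap R K (e i : R))) Finset.univ_nonempty
  let e' := (Equiv.swap 0 i₀).trans e
  let a : Fin (n + 1) → R := fun i => e' i
  have ha : Ideal.span (Set.range a) = maximalIdeal R := by
    rw [← hs]
    congr 1
    ext r
    exact ⟨by rintro ⟨i, rfl⟩; exact (e' i).2, fun hr => ⟨e'.symm ⟨r, hr⟩, by simp [a]⟩⟩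
  have hmax : ∀ i, V.valuation (algebraMap R K (a i)) ≤ V.valuation (algebraMap R K (a 0)) := by
    intro i
    simp only [a, e', Equiv.trans_apply, Equiv.swap_apply_left]
    exact hi₀ _ (Finset.mem_univ _)
  have ha0 : a 0 ≠ 0 := by
    intro h0
    have hz : ∀ i, a i = 0 := fun i => by
      have h := hmax i
      rw [h0, map_zero, map_zero, le_zero_iff] at h
      exact hRK (by rw [map_zero]; exact V.valuation.zero_iff.1 h)
    have : maximalIdeal R = ⊥ := by
      rw [← ha, Ideal.span_eq_bot]
      rintro _ ⟨i, rfl⟩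
      exact hz i
    rw [this] at hn
    simp at hn
  have ha0K : algebraMap R K (a 0) ≠ 0 := (map_ne_zero_iff _ hRK).2 ha0
  let t : Fin n → K := fun i => algebraMap R K (a i.succ) / algebraMap R K (a 0)
  have ht : ∀ i, algebraMap R K (a 0) * t i = algebraMap R K (a i.succ) := fun i => by
    simp only [t]; field_simp
  let q : MvPolynomial (Fin n) R →ₐ[R] K := aeval t
  let qr := q.rangeRestrict
  have hqr : Function.Surjective qr := q.rangeRestrict_surjective
  let G : MvPolynomial (Fin n) R →+* MvPolynomial (Fin n) (ResidueField R) := map (residue R)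
  have hker : RingHom.ker (qr : MvPolynomial (Fin n) R →+* q.range) ≤ RingHom.ker G := by
    intro F hF
    have hF' : aeval t F = 0 := congrArg Subtype.val hF
    rw [RingHom.mem_ker]
    ext s
    rw [coeff_map, coeff_zero, residue_eq_zero_iff]
    exact coeff_mem_maximalIdeal hRK a ha hn t ht F hF' s
  let π : q.range →+* MvPolynomial (Fin n) (ResidueField R) :=
    RingHom.liftOfSurjective (qr : MvPolynomial (Fin n) R →+* q.range) hqr ⟨G, hker⟩
  have hπ : ∀ F, π (qr F) = G F := fun F =>
    RingHom.liftOfSurjective_comp_apply (qr : MvPolynomial (Fin n) R →+* q.range) hqr ⟨G, hker⟩ F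
  have hmul : ∀ g ∈ maximalIdeal R, ∃ g' : q.range, algebraMap R K g = algebraMap R K (a 0) * (g' : K) := by
    intro g hg
    rw [← ha] at hg
    induction hg using Submodule.span_induction with
    | mem g hg =>
      obtain ⟨i, rfl⟩ := hg
      obtain rfl | ⟨j, rfl⟩ := Fin.eq_zero_or_eq_succ i
      · exact ⟨1, by simp⟩
      · exact ⟨⟨t j, X j, by simp [q]⟩, (ht j).symm⟩
    | zero => exact ⟨0, by simp⟩
    | add g h _ _ ihg ihh =>
      obtain ⟨g', hg'⟩ := ihg
      obtain ⟨h', hh'⟩ := ihh
      exact ⟨g' + h', by rw [map_add, hg', hh', Subalgebra.coe_add]; ring⟩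
    | smul r g _ ihg =>
      obtain ⟨g', hg'⟩ := ihg
      exact ⟨r • g', by rw [smul_eq_mul, map_mul, hg', Subalgebra.coe_smul, Algebra.smul_def]; ring⟩
  refine ⟨a 0, q.range, π, ha ▸ Ideal.subset_span ⟨0, rfl⟩, ha0,
    isNoetherianRing_of_surjective (MvPolynomial (Fin n) R) q.range (qr : MvPolynomial (Fin n) R →+* q.range) hqr,
    ?_, ?_, ?_, ?_, hmul⟩
  · rintro ⟨b, F, rfl⟩
    show q F ∈ V
    induction F using MvPolynomial.induction_on with
    | C r => simpa [q] using hV r
    | add F G hF hG => rw [map_add]; exact V.add_mem _ _ hF hG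
    | mul_X F i hF =>
      rw [map_mul]
      refine V.mul_mem _ _ hF ?_
      rw [← V.valuation_le_one_iff, show q (X i) = t i by simp [q]]
      simp only [t, map_div₀]
      exact div_le_one₀ (zero_lt_iff.2 (V.valuation.ne_zero_iff.2 ha0K)) |>.2 (hmax _)
  · intro P
    obtain ⟨F, rfl⟩ := MvPolynomial.map_surjective (residue R) residue_surjective P
    exact ⟨qr F, hπ F⟩
  · refine RingHom.ext fun r => ?_
    have h : algebraMap R q.range r = qr (C r) := Subtype.ext (by simp [q, qr])
    rw [RingHom.comp_apply, h, hπ]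
    simp [G]
  · refine le_antisymm ?_ ?_
    · intro b hb
      obtain ⟨F, rfl⟩ := hqr b
      rw [RingHom.mem_ker, hπ] at hb
      have hc : ∀ s, F.coeff s ∈ maximalIdeal R := fun s => by
        rw [← residue_eq_zero_iff, ← coeff_map]
        exact (congrArg (coeff s) hb).trans (coeff_zero s)
      rw [← F.support_sum_monomial_coeff, map_sum]
      refine Ideal.sum_mem _ fun s _ => ?_
      obtain ⟨g', hg'⟩ := hmul _ (hc s)
      refine Ideal.mem_span_singleton.2 ⟨g' * qr (monomial s 1), Subtype.ext ?_⟩
      show q (monomial s (F.coeff s)) = algebraMap R K (a 0) * ((g' : K) * q (monomial s 1))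
      rw [← mul_assoc, ← hg', aeval_monomial, aeval_monomial, map_one, one_mul]
    · rw [Ideal.span_singleton_le_iff_mem, RingHom.mem_ker]
      have h : algebraMap R q.range (a 0) = qr (C (a 0)) := Subtype.ext (by simp [q, qr])
      rw [h, hπ]
      simp only [G, map_C, (residue_eq_zero_iff _).2 (ha ▸ Ideal.subset_span ⟨0, rfl⟩ : a 0 ∈ maximalIdeal R), map_zero]

end Groth.Agent.H4.RegExt.Blow
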