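import Groth.Agent.H4.RegExt.Chart
import Mathlib.AlgebraicGeometry.Morphisms.Separated
import Mathlib.RingTheory.DiscreteValuationRing.Basic
import Mathlib.AlgebraicGeometry.Morphisms.UnderlyingMap

/-!
Centres of divisorial valuations: into a separated target without rational curves, the closed point
of a dominating discrete valuation ring goes to a point algebraic over the residue field.
-/

set_option autoImplicit false
set_option linter.style.haveILetI false

universe u

open CategoryTheory AlgebraicGeometry IsLocalRing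

namespace Groth.Agent.H4.RegExt

variable {S Z : Scheme.{u}}

/-- `Spec` of a ring map. -/
noncomputable abbrev sm {A B : Type u} [CommRing A] [CommRing B] (f : A →+* B) :
    Spec (CommRingCat.of B) ⟶ Spec (CommRingCat.of A) := Spec.map (CommRingCat.ofHom f)

theorem sm_comp {A B C : Type u} [CommRing A] [CommRing B] [CommRing C] (g : B →+* C) (f : A →+* B) :
    sm g ≫ sm f = sm (g.comp f) := by
  rw [sm, sm, sm, CommRingCat.ofHom_comp, Spec.map_comp]

theorem sm_comp_assoc {A B C : Type u} [CommRing A] [CommRing B] [CommRing C] (g : B →+* C)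
    (f : A →+* B) {Y : Scheme.{u}} (h : Spec (CommRingCat.of A) ⟶ Y) :
    sm g ≫ sm f ≫ h = sm (g.comp f) ≫ h := by rw [← Category.assoc, sm_comp]

/-- Two morphisms from a domain to a separated target agreeing at the generic point are equal. -/
theorem eq_of_generic (p : Z ⟶ S) [IsSeparated p] {A L : Type u} [CommRing A] [IsDomain A]
    [CommRing L] [Nontrivial L] (f : A →+* L) (hf : Function.Injective f)
    {φ₁ φ₂ : Spec (CommRingCat.of A) ⟶ Z} (h : φ₁ ≫ p = φ₂ ≫ p) (he : sm f ≫ φ₁ = sm f ≫ φ₂) :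
    φ₁ = φ₂ := by
  haveI : IsDominant (sm f) := by
    rw [isDominant_iff]
    exact (PrimeSpectrum.denseRange_comap_iff_ker_le_nilRadical f).2
      ((RingHom.injective_iff_ker_eq_bot f).1 hf ▸ bot_le)
  exact ext_of_isDominant_of_isSeparated p h (sm f) he

/-- Morphisms from purely transcendental extensions of a field factor through the field. -/
def NoRat (p : Z ⟶ S) : Prop :=
  ∀ (k : Type u) [Field k] (n : ℕ) (s : Spec (CommRingCat.of k) ⟶ S)
    (a : Spec (CommRingCat.of (FractionRing (MvPolynomial (Fin n) k))) ⟶ Z),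
    a ≫ p = sm (algebraMap k (FractionRing (MvPolynomial (Fin n) k))) ≫ s →
      ∃ c : Spec (CommRingCat.of k) ⟶ Z,
        c ≫ p = s ∧ sm (algebraMap k (FractionRing (MvPolynomial (Fin n) k))) ≫ c = a

/-- The extension property for regular local rings of embedding dimension `< d`. -/
def ExtBelow (p : Z ⟶ S) (d : ℕ) : Prop :=
  ∀ (R : Type u) [CommRing R] [IsRegularLocalRing R] (K : Type u) [Field K] [Algebra R K]
    [IsFractionRing R K], (maximalIdeal R).spanFinrank < d →
    ∀ (b : Spec (CommRingCat.of R) ⟶ S) (a : Spec (CommRingCat.of K) ⟶ Z),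
      a ≫ p = sm (algebraMap R K) ≫ b →
      ∃ φ : Spec (CommRingCat.of R) ⟶ Z, φ ≫ p = b ∧ sm (algebraMap R K) ≫ φ = a

/-- The closed point of `ψ` is algebraic over the residue field of `R`. -/
def Alg (p : Z ⟶ S) {R V : Type u} [CommRing R] [IsLocalRing R] [CommRing V] [IsLocalRing V]
    (i : R →+* V) [IsLocalHom i] (b : Spec (CommRingCat.of R) ⟶ S)
    (ψ : Spec (CommRingCat.of V) ⟶ Z) : Prop :=
  ∃ (L : Type u) (_ : Field L) (ι : ResidueField R →+* L) (τ : L →+* ResidueField V)
    (c : Spec (CommRingCat.of L) ⟶ Z), ι.IsIntegral ∧ τ.comp ι = ResidueField.map i ∧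
    c ≫ p = sm ι ≫ sm (residue R) ≫ b ∧ sm τ ≫ c = sm (residue V) ≫ ψ

theorem alg_of_integral (p : Z ⟶ S) {R V : Type u} [CommRing R] [IsLocalRing R] [CommRing V]
    [IsLocalRing V] (i : R →+* V) [IsLocalHom i] (b : Spec (CommRingCat.of R) ⟶ S)
    (ψ : Spec (CommRingCat.of V) ⟶ Z) (hψ : ψ ≫ p = sm i ≫ b)
    (h : (ResidueField.map i).IsIntegral) : Alg p i b ψ := by
  refine ⟨ResidueField V, inferInstance, ResidueField.map i, RingHom.id _,
    sm (residue V) ≫ ψ, h, RingHom.id_comp _, ?_, ?_⟩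
  · rw [Category.assoc, hψ, sm_comp_assoc, sm_comp_assoc, ResidueField.map_comp_residue]
  · rw [sm_comp_assoc, RingHom.id_comp]

/-- Centres of dominating discrete valuations are algebraic. -/
theorem center (p : Z ⟶ S) [IsSeparated p] (hnr : NoRat p) (d : ℕ) (hd : ExtBelow p d)
    {K : Type u} [Field K] (V : ValuationSubring K) [IsDiscreteValuationRing V] :
    ∀ (g : V), g ≠ 0 → ∀ (R : Type u) [CommRing R] [IsRegularLocalRing R] [Algebra R K]
      [IsFractionRing R K] (i : R →+* V) [IsLocalHom i], (∀ r, (i r : K) = algebraMap R K r) →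
      (maximalIdeal R).spanFinrank ≤ d →
      ∀ (f g₀ : R) (u : V), i g₀ = g → u * g = i f → ¬ (ResidueField.map i).IsIntegralElem (residue V u) →
      ∀ (b : Spec (CommRingCat.of R) ⟶ S) (ψ : Spec (CommRingCat.of V) ⟶ Z), ψ ≫ p = sm i ≫ b →
        Alg p i b ψ := by
  intro g
  induction g using (IsWellFounded.wf (r := DvdNotUnit (α := V))).induction with
  | _ g IH =>
  intro hg R _ _ _ _ i _ hi hdR f g₀ u hig hu hnint b ψ hψ
  have hint_of : ∀ r, (ResidueField.map i).IsIntegralElem (residue V (i r)) := fun r => by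
    rw [← ResidueField.map_residue]
    exact RingHom.isIntegralElem_map _
  have hg0m : g₀ ∈ maximalIdeal R := by
    by_contra h
    obtain ⟨w, hw⟩ := not_not.1 ((mem_maximalIdeal _).not.1 h)
    refine hnint ?_
    have : u = i (f * ↑w⁻¹) := by
      rw [map_mul, ← hu, mul_assoc, ← hig, ← map_mul, ← hw, Units.mul_inv, map_one, mul_one]
    rw [this]; exact hint_of _
  have hfm : f ∈ maximalIdeal R := by
    by_contra h
    have h1 : IsUnit (u * g) := hu ▸ (not_not.1 ((mem_maximalIdeal _).not.1 h)).map i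
    exact (mem_maximalIdeal _).1 hg0m (isUnit_of_map_unit i _ (hig ▸ isUnit_of_mul_isUnit_right h1))
  obtain ⟨n, hn⟩ : ∃ n, (maximalIdeal R).spanFinrank = n + 1 := by
    refine Nat.exists_eq_succ_of_ne_zero fun h0 => hg ?_
    rw [Submodule.spanFinrank_eq_zero_iff_eq_bot (Ideal.fg_of_isNoetherianRing _)] at h0
    rw [h0, Ideal.mem_bot] at hg0m
    rw [← hig, hg0m, map_zero]
  obtain ⟨R₁, _, _, _, _, α, i₁, _, _, hi₁, hα, hd₁, ⟨x, hxm, hx0, hdiv⟩, hcase⟩ :=
    Chart.exists_step hn V i hi
  have hiα : i₁.comp α = i := RingHom.ext hα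
  have hψ₁ : ψ ≫ p = sm i₁ ≫ (sm α ≫ b) := by rw [sm_comp_assoc, hiα, hψ]
  have hmap : (ResidueField.map i₁).comp (ResidueField.map α) = ResidueField.map i := by
    rw [← ResidueField.map_comp]; congr 1
  rcases hcase with hint | ⟨hlt, T, _, _, π₁, _, _, _, θ, htow, hπα, hθπ⟩
  · have hnint₁ : ¬ (ResidueField.map i₁).IsIntegralElem (residue V u) := by
      intro h
      apply hnint
      rw [← hmap]
      letI := (ResidueField.map α).toAlgebra
      letI := (ResidueField.map i₁).toAlgebra
      letI := ((ResidueField.map i₁).comp (ResidueField.map α)).toAlgebra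
      haveI : IsScalarTower (ResidueField R) (ResidueField R₁) (ResidueField V) :=
        IsScalarTower.of_algebraMap_eq' rfl
      haveI : Algebra.IsIntegral (ResidueField R) (ResidueField R₁) := ⟨hint⟩
      exact isIntegral_trans (R := ResidueField R) (residue V u) h
    obtain ⟨f', hf'⟩ := hdiv f hfm
    obtain ⟨g', hg'⟩ := hdiv g₀ hg0m
    have hgx : g = i₁ g' * i₁ x := by rw [← hig, ← hα, hg', map_mul, mul_comm]
    have hg'0 : i₁ g' ≠ 0 := fun h => hg (by rw [hgx, h, zero_mul])
    have hrel : u * i₁ g' = i₁ f' := by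
      refine mul_right_cancel₀ hx0 ?_
      rw [mul_assoc, ← hgx, hu, ← hα, hf', map_mul, mul_comm]
    obtain ⟨L, _, ι, τ, c, hι, hτ, hc, hcψ⟩ :=
      IH (i₁ g') ⟨hg'0, i₁ x, fun h => (mem_maximalIdeal _).1 hxm (isUnit_of_map_unit i₁ x h), hgx⟩
        hg'0 R₁ i₁ hi₁ (hd₁.trans (hn ▸ hdR)) f' g' u rfl hrel hnint₁ (sm α ≫ b) ψ hψ₁
    refine ⟨L, inferInstance, ι.comp (ResidueField.map α), τ, c, RingHom.IsIntegral.trans _ _ hint hι,
      by rw [← RingHom.comp_assoc, hτ, hmap], ?_, hcψ⟩
    rw [hc, sm_comp_assoc (residue R₁) α, ← ResidueField.map_comp_residue α,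
      ← sm_comp_assoc (ResidueField.map α) (residue R), sm_comp_assoc ι (ResidueField.map α)]
  · obtain ⟨φ, hφp, hφ⟩ := hd R₁ K (lt_of_lt_of_le hlt (hn ▸ hdR)) (sm α ≫ b) (sm V.subtype ≫ ψ) (by
      rw [Category.assoc, hψ₁, sm_comp_assoc]
      congr 2
      exact RingHom.ext hi₁)
    have hψφ : sm i₁ ≫ φ = ψ := by
      refine eq_of_generic p V.subtype Subtype.val_injective ?_ ?_
      · rw [Category.assoc, hφp, hψ₁]
      · rw [sm_comp_assoc, show V.subtype.comp i₁ = algebraMap R₁ K from RingHom.ext hi₁, hφ]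
    let F := FractionRing (MvPolynomial (Fin n) (ResidueField R))
    let s := sm (residue R) ≫ b
    have hTp : sm π₁ ≫ φ ≫ p = sm (algebraMap (ResidueField R) T) ≫ s := by
      rw [hφp, sm_comp_assoc, hπα, ← sm_comp_assoc]
    have htow' : (algebraMap T F).comp (algebraMap (ResidueField R) T) = algebraMap (ResidueField R) F :=
      (IsScalarTower.algebraMap_eq _ _ _).symm
    obtain ⟨c, hc, hca⟩ := hnr (ResidueField R) n s (sm (algebraMap T F) ≫ sm π₁ ≫ φ) (by
      simp only [Category.assoc, hTp]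
      rw [sm_comp_assoc, htow'])
    have hT : sm π₁ ≫ φ = sm (algebraMap (ResidueField R) T) ≫ c := by
      refine eq_of_generic p (algebraMap T F) (IsFractionRing.injective T F) ?_ ?_
      · rw [Category.assoc, Category.assoc, hTp, hc]
      · rw [← hca, sm_comp_assoc, htow']
    refine ⟨ResidueField R, inferInstance, RingHom.id _, ResidueField.map i, c,
      RingHom.isIntegral_of_surjective _ Function.surjective_id, RingHom.comp_id _, ?_, ?_⟩
    · rw [hc, sm_comp_assoc (RingHom.id _) (residue R), RingHom.id_comp]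
    · rw [← hψφ, sm_comp_assoc (residue V) i₁, ← hθπ, ← sm_comp_assoc θ π₁, hT, sm_comp_assoc]
      congr 2
      refine RingHom.ext fun r => ?_
      obtain ⟨r, rfl⟩ := residue_surjective r
      rw [ResidueField.map_residue]
      refine Eq.trans ?_ (congrArg θ (DFunLike.congr_fun hπα r))
      rw [← hα]
      exact (DFunLike.congr_fun hθπ (α r)).symm

/-- Every centre is algebraic. -/
theorem center' (p : Z ⟶ S) [IsSeparated p] (hnr : NoRat p) (d : ℕ) (hd : ExtBelow p d)
    {K : Type u} [Field K] (V : ValuationSubring K) [IsDiscreteValuationRing V]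
    (R : Type u) [CommRing R] [IsRegularLocalRing R] [Algebra R K] [IsFractionRing R K]
    (i : R →+* V) [IsLocalHom i] (hi : ∀ r, (i r : K) = algebraMap R K r)
    (hdR : (maximalIdeal R).spanFinrank ≤ d) (b : Spec (CommRingCat.of R) ⟶ S)
    (ψ : Spec (CommRingCat.of V) ⟶ Z) (hψ : ψ ≫ p = sm i ≫ b) : Alg p i b ψ := by
  by_cases h : (ResidueField.map i).IsIntegral
  · exact alg_of_integral p i b ψ hψ h
  obtain ⟨z, hz⟩ := not_forall.1 h
  obtain ⟨u, rfl⟩ := residue_surjective z
  obtain ⟨f, g, hg, hfg⟩ := IsFractionRing.div_surjective (A := R) (u : K)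
  have hg0 : algebraMap R K g ≠ 0 := by
    rw [map_ne_zero_iff _ (IsFractionRing.injective R K)]
    exact nonZeroDivisors.ne_zero hg
  refine center p hnr d hd V (i g) (fun h => hg0 (by rw [← hi, h]; rfl)) R i hi hdR f g u rfl
    (Subtype.ext ?_) hz b ψ hψ
  show (u : K) * (i g : K) = (i f : K)
  rw [hi, hi, ← hfg, div_mul_cancel₀ _ hg0]

end Groth.Agent.H4.RegExt
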