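import Groth.Agent.H4.RegExt.Blow
import Groth.Agent.Lib.Regular.Serre
import Mathlib.RingTheory.RegularLocalRing.Polynomial
import Mathlib.RingTheory.KrullDimension.Polynomial
import Mathlib.RingTheory.KrullDimension.Regular
import Mathlib.RingTheory.Jacobson.Ring

/-!
The local ring of the blow-up chart at the centre of a dominating valuation ring.
-/

set_option autoImplicit false
set_option linter.style.haveILetI false

universe u

open IsLocalRing MvPolynomial

namespace Groth.Agent.H4.RegExt.Chart

/-- The data of the exceptional divisor at a prime `Q` of the polynomial ring. -/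
theorem divisor_data {k : Type u} [Field k] {n : ℕ} (Q : Ideal (MvPolynomial (Fin n) k)) [Q.IsPrime]
    {R R₁ L : Type u} [CommRing R] [IsLocalRing R] [CommRing R₁] [CommRing L]
    (π₁ : R₁ →+* Localization.AtPrime Q) (hπ₁s : Function.Surjective π₁) (α : R →+* R₁)
    {ρ : R →+* k} (hcomp : π₁.comp α =
      ((algebraMap (MvPolynomial (Fin n) k) (Localization.AtPrime Q)).comp C).comp ρ)
    (g : R₁ →+* L) (hker : RingHom.ker π₁ ≤ RingHom.ker g) :
    ∃ (T : Type u) (_ : CommRing T) (_ : IsDomain T) (π₁ : R₁ →+* T) (_ : Algebra k T)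
      (_ : Algebra T (FractionRing (MvPolynomial (Fin n) k)))
      (_ : IsFractionRing T (FractionRing (MvPolynomial (Fin n) k))) (θ : T →+* L),
      IsScalarTower k T (FractionRing (MvPolynomial (Fin n) k)) ∧
        π₁.comp α = (algebraMap k T).comp ρ ∧ θ.comp π₁ = g := by
  let T := Localization.AtPrime Q
  let F := FractionRing (MvPolynomial (Fin n) k)
  letI : Algebra T F := (IsLocalization.lift (M := Q.primeCompl) (g := algebraMap _ F) fun y =>
    isUnit_iff_ne_zero.2 ((map_ne_zero_iff _ (IsFractionRing.injective _ F)).2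
      fun h => y.2 (h ▸ Q.zero_mem))).toAlgebra
  haveI : IsScalarTower (MvPolynomial (Fin n) k) T F :=
    IsScalarTower.of_algebraMap_eq fun p => by
      rw [RingHom.algebraMap_toAlgebra, IsLocalization.lift_eq]
  haveI : IsFractionRing T F :=
    IsFractionRing.isFractionRing_of_isDomain_of_isLocalization Q.primeCompl T F
  letI iT : Algebra k T := ((algebraMap (MvPolynomial (Fin n) k) T).comp C).toAlgebra
  have htow : @IsScalarTower k T F iT.toSMul _ _ := by
    refine IsScalarTower.of_algebraMap_eq (R := k) (S := T) (A := F) fun c => ?_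
    rw [show algebraMap k T c = algebraMap (MvPolynomial (Fin n) k) T (C c) from rfl,
      ← IsScalarTower.algebraMap_apply (MvPolynomial (Fin n) k) T F]
    exact IsScalarTower.algebraMap_apply k (MvPolynomial (Fin n) k) F c
  exact ⟨T, inferInstance, inferInstance, π₁, iT, inferInstance, inferInstance,
    RingHom.liftOfSurjective π₁ hπ₁s ⟨g, hker⟩, htow, hcomp,
    RingHom.liftOfSurjective_comp π₁ hπ₁s ⟨g, hker⟩⟩

/-- The step of the induction: either the centre has residue field integral over the old one, or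
its local ring has smaller dimension and the exceptional divisor there is a localization of a
polynomial ring. In both cases the new ring is regular of dimension at most the old one. -/
theorem exists_step {R : Type u} [CommRing R] [IsRegularLocalRing R] {K : Type u} [Field K]
    [Algebra R K] [IsFractionRing R K] {n : ℕ} (hn : (maximalIdeal R).spanFinrank = n + 1)
    (V : ValuationSubring K) (i : R →+* V) (hi : ∀ r, (i r : K) = algebraMap R K r) [IsLocalHom i] :
    ∃ (R₁ : Type u) (_ : CommRing R₁) (_ : IsRegularLocalRing R₁) (_ : Algebra R₁ K)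
      (_ : IsFractionRing R₁ K) (α : R →+* R₁) (i₁ : R₁ →+* V) (_ : IsLocalHom i₁) (_ : IsLocalHom α),
      (∀ r, (i₁ r : K) = algebraMap R₁ K r) ∧ (∀ r, i₁ (α r) = i r) ∧
      (maximalIdeal R₁).spanFinrank ≤ n + 1 ∧
      (∃ x : R₁, x ∈ maximalIdeal R₁ ∧ i₁ x ≠ 0 ∧ ∀ g ∈ maximalIdeal R, ∃ g' : R₁, α g = x * g') ∧
      ((ResidueField.map α).IsIntegral ∨
        ((maximalIdeal R₁).spanFinrank < n + 1 ∧
          ∃ (T : Type u) (_ : CommRing T) (_ : IsDomain T) (π₁ : R₁ →+* T)
            (_ : Algebra (ResidueField R) T)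
            (_ : Algebra T (FractionRing (MvPolynomial (Fin n) (ResidueField R))))
            (_ : IsFractionRing T (FractionRing (MvPolynomial (Fin n) (ResidueField R))))
            (θ : T →+* ResidueField V),
            IsScalarTower (ResidueField R) T (FractionRing (MvPolynomial (Fin n) (ResidueField R))) ∧
            π₁.comp α = (algebraMap (ResidueField R) T).comp (residue R) ∧
            θ.comp π₁ = (residue V).comp i₁)) := by
  have hRK : Function.Injective (algebraMap R K) := IsFractionRing.injective R K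
  obtain ⟨x, B, π, hxm, hx0, hBN, hBV, hπs, hπC, hπk, hdiv⟩ :=
    Blow.exists_chart hRK hn V (fun r => hi r ▸ (i r).2)
  haveI : IsFractionRing B K := by
    refine ⟨fun y => ?_, fun z => ?_, fun {x y} h => ⟨1, by simpa using Subtype.ext h⟩⟩
    · exact isUnit_iff_ne_zero.2 fun h => nonZeroDivisors.coe_ne_zero y (Subtype.ext h)
    · obtain ⟨r, s, hs, rfl⟩ := IsFractionRing.div_surjective (A := R) z
      refine ⟨⟨algebraMap R B r, algebraMap R B s, mem_nonZeroDivisors_of_ne_zero ?_⟩, ?_⟩
      · intro h
        exact nonZeroDivisors.ne_zero hs (hRK (by simpa using congrArg Subtype.val h))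
      · simp [(map_ne_zero_iff _ hRK).2 (nonZeroDivisors.ne_zero hs)]
  let iB : B →+* V := B.val.toRingHom.codRestrict V.toSubring hBV
  let P : Ideal B := (maximalIdeal V).comap iB
  haveI : P.IsPrime := Ideal.IsPrime.comap iB
  have hiBR : ∀ r, iB (algebraMap R B r) = i r := fun r => Subtype.ext (hi r).symm
  have hxP : algebraMap R B x ∈ P := by
    show iB _ ∈ maximalIdeal V
    rw [hiBR]
    exact map_nonunit i x hxm
  have hkerP : RingHom.ker π ≤ P := by
    rw [hπk, Ideal.span_singleton_le_iff_mem]; exact hxP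
  haveI hPb : (P.map π).IsPrime := Ideal.map_isPrime_of_surjective hπs hkerP
  set Q := P.map π with hQ
  have hPQ : P = Q.comap π := by
    rw [hQ, Ideal.comap_map_of_surjective' π hπs, sup_eq_left.2 hkerP]
  let R₁ := Localization.AtPrime P
  have hunit : ∀ y : P.primeCompl, IsUnit (iB y) := fun y => by
    by_contra h
    exact y.2 ((mem_maximalIdeal _).2 h)
  let i₁ : R₁ →+* V := IsLocalization.lift (M := P.primeCompl) hunit
  letI : Algebra R₁ K := (V.subtype.comp i₁).toAlgebra
  haveI : IsScalarTower B R₁ K := IsScalarTower.of_algebraMap_eq fun b => by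
    show (b : K) = (i₁ (algebraMap B R₁ b) : K)
    rw [IsLocalization.lift_eq]; rfl
  haveI : IsFractionRing R₁ K :=
    IsFractionRing.isFractionRing_of_isDomain_of_isLocalization P.primeCompl R₁ K
  haveI : IsDomain R₁ := Function.Injective.isDomain (algebraMap R₁ K) (IsFractionRing.injective R₁ K)
  haveI : IsLocalHom i₁ := ⟨fun r hr => by
    obtain ⟨⟨b, y⟩, rfl⟩ := IsLocalization.mk'_surjective P.primeCompl r
    rw [IsLocalization.AtPrime.isUnit_mk'_iff]
    intro hb
    rw [show i₁ (IsLocalization.mk' R₁ b y) = iB b * ↑((hunit y).unit⁻¹) from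
      (IsLocalization.lift_mk' hunit b y)] at hr
    exact (mem_maximalIdeal _).1 hb (isUnit_of_mul_isUnit_left hr)⟩
  let α : R →+* R₁ := (algebraMap B R₁).comp (algebraMap R B)
  have hα : ∀ r, i₁ (α r) = i r := fun r => by
    show i₁ (algebraMap B R₁ _) = _
    rw [IsLocalization.lift_eq]; exact hiBR r
  haveI : IsLocalHom α := ⟨fun r hr => by
    have h := hr.map i₁
    rw [hα] at h
    exact isUnit_of_map_unit i r h⟩
  -- the exceptional divisor
  let T := Localization.AtPrime Q
  let π₁ : R₁ →+* T := Localization.localRingHom P Q π hPQ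
  have hπ₁ : ∀ b, π₁ (algebraMap B R₁ b) = algebraMap _ T (π b) :=
    Localization.localRingHom_to_map P Q π hPQ
  have hπ₁s : Function.Surjective π₁ := fun z => by
    obtain ⟨⟨a, s⟩, rfl⟩ := IsLocalization.mk'_surjective Q.primeCompl z
    obtain ⟨a', rfl⟩ := hπs a
    obtain ⟨s', hs'⟩ := hπs s
    have hs'P : s' ∉ P := fun h => s.2 (hs' ▸ (hPQ ▸ h : s' ∈ Q.comap π))
    refine ⟨IsLocalization.mk' R₁ a' (⟨s', hs'P⟩ : P.primeCompl), ?_⟩
    rw [Localization.localRingHom_mk']
    congr 1
    exact Subtype.ext hs'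
  have hx1m : α x ∈ maximalIdeal R₁ := map_nonunit α x hxm
  have hπ₁k : RingHom.ker π₁ = Ideal.span {α x} := by
    refine le_antisymm (fun z hz => ?_) ?_
    · obtain ⟨⟨a, s⟩, rfl⟩ := IsLocalization.mk'_surjective P.primeCompl z
      rw [RingHom.mem_ker, Localization.localRingHom_mk', IsLocalization.mk'_eq_zero_iff] at hz
      obtain ⟨c, hc⟩ := hz
      have hc0 : (c : MvPolynomial (Fin n) (ResidueField R)) ≠ 0 := fun h => c.2 (h ▸ Q.zero_mem)
      have ha : a ∈ RingHom.ker π := (mul_eq_zero.1 hc).resolve_left hc0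
      rw [hπk, Ideal.mem_span_singleton] at ha
      obtain ⟨a', rfl⟩ := ha
      rw [Ideal.mem_span_singleton]
      exact ⟨IsLocalization.mk' R₁ a' s, (IsLocalization.mul_mk'_eq_mk'_of_mul _ _ _).symm⟩
    · rw [Ideal.span_singleton_le_iff_mem, RingHom.mem_ker]
      show π₁ (algebraMap B R₁ (algebraMap R B x)) = 0
      rw [hπ₁, show π (algebraMap R B x) = 0 from RingHom.mem_ker.1 (hπk ▸ Ideal.mem_span_singleton_self _),
        map_zero]
  haveI : IsNoetherianRing B := hBN
  haveI : IsNoetherianRing R₁ := IsLocalization.isNoetherianRing P.primeCompl R₁ inferInstance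
  have hx10 : i₁ (α x) ≠ 0 := fun h => by
    rw [hα] at h
    have := congrArg Subtype.val h
    rw [hi] at this
    exact hx0 (hRK (by rw [map_zero]; exact this))
  have hxreg : IsSMulRegular R₁ (α x) := fun a b h => mul_left_cancel₀
    (fun h' : α x = 0 => hx10 (by rw [h', map_zero])) h
  let eT : R₁ ⧸ Ideal.span {α x} ≃+* T :=
    (Ideal.quotEquivOfEq hπ₁k.symm).trans (RingHom.quotientKerEquivOfSurjective hπ₁s)
  haveI : IsRegularLocalRing T := inferInstance
  haveI : IsRegularLocalRing (R₁ ⧸ Ideal.span {α x}) := IsRegularLocalRing.of_ringEquiv eT.symm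
  haveI hR1 : IsRegularLocalRing R₁ := Lib.Regular.Quotient.of_quotient_singleton hx1m hxreg ‹_›
  have hdim : ((maximalIdeal R₁).spanFinrank : WithBot ℕ∞) = (Q.height : WithBot ℕ∞) + 1 := by
    rw [IsRegularLocalRing.spanFinrank_maximalIdeal,
      ← ringKrullDim_quotient_span_singleton_succ_eq_ringKrullDim hxreg hx1m,
      ringKrullDim_eq_of_ringEquiv eT, IsLocalization.AtPrime.ringKrullDim_eq_height Q T]
  have hdimk : ringKrullDim (MvPolynomial (Fin n) (ResidueField R)) = n := by
    rw [MvPolynomial.ringKrullDim_of_isNoetherianRing, ringKrullDim_eq_zero_of_field]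
    simp
  have hQn : Q.height ≤ n := by
    have := Ideal.height_le_ringKrullDim_of_ne_top (hPb.ne_top : Q ≠ ⊤)
    rw [hdimk] at this
    exact_mod_cast this
  refine ⟨R₁, inferInstance, hR1, inferInstance, inferInstance, α, i₁, inferInstance, inferInstance,
    fun r => rfl, hα, ?_, ⟨α x, hx1m, hx10, fun g hg => ?_⟩, ?_⟩
  · have h : (Q.height : WithBot ℕ∞) + 1 ≤ (n : WithBot ℕ∞) + 1 := by
      gcongr; exact_mod_cast hQn
    rw [← hdim] at h
    exact_mod_cast h
  · obtain ⟨g', hg'⟩ := hdiv g hg
    refine ⟨algebraMap B R₁ g', ?_⟩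
    show algebraMap B R₁ _ = algebraMap B R₁ _ * _
    rw [← map_mul]
    exact congrArg _ (Subtype.ext hg')
  by_cases hmax : Q.IsMaximal
  · left
    letI : Field (MvPolynomial (Fin n) (ResidueField R) ⧸ Q) := Ideal.Quotient.field Q
    haveI : Module.Finite (ResidueField R) (MvPolynomial (Fin n) (ResidueField R) ⧸ Q) :=
      finite_of_finite_type_of_isJacobsonRing _ _
    let μ : MvPolynomial (Fin n) (ResidueField R) ⧸ Q →+* ResidueField T :=
      Ideal.Quotient.lift Q ((residue T).comp (algebraMap _ T)) fun a ha => by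
        rw [RingHom.comp_apply, residue_eq_zero_iff]
        exact (IsLocalization.AtPrime.to_map_mem_maximal_iff T Q a).2 ha
    haveI : IsLocalHom π₁ := Localization.isLocalHom_localRingHom P Q π hPQ
    let ω := ResidueField.map π₁
    have hω : (ω.comp (ResidueField.map α)) =
        μ.comp (algebraMap (ResidueField R) (MvPolynomial (Fin n) (ResidueField R) ⧸ Q)) := by
      refine Ideal.Quotient.ringHom_ext (RingHom.ext fun r => ?_)
      show residue T (π₁ (α r)) = residue T (algebraMap _ T (C (residue R r)))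
      rw [show α r = algebraMap B R₁ (algebraMap R B r) from rfl, hπ₁, ← RingHom.comp_apply π,
        hπC]
      rfl
    have hμs : Function.Surjective μ := fun z => by
      obtain ⟨z, rfl⟩ := residue_surjective z
      obtain ⟨⟨a, s⟩, rfl⟩ := IsLocalization.mk'_surjective Q.primeCompl z
      have hs0 : Ideal.Quotient.mk Q (s : MvPolynomial (Fin n) (ResidueField R)) ≠ 0 := fun h =>
        s.2 (Ideal.Quotient.eq_zero_iff_mem.1 h)
      refine ⟨Ideal.Quotient.mk Q a * (Ideal.Quotient.mk Q (s : MvPolynomial (Fin n) (ResidueField R)))⁻¹, ?_⟩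
      rw [map_mul, map_inv₀]
      simp only [μ, Ideal.Quotient.lift_mk, RingHom.comp_apply]
      rw [mul_inv_eq_iff_eq_mul₀ ((residue_ne_zero_iff_isUnit _).2 (IsLocalization.map_units T s)),
        ← map_mul, IsLocalization.mk'_spec]
    have hint : (ω.comp (ResidueField.map α)).IsIntegral := by
      rw [hω]
      exact RingHom.IsIntegral.trans _ _ (algebraMap_isIntegral_iff.2 inferInstance)
        (RingHom.isIntegral_of_surjective _ hμs)
    intro z
    obtain ⟨p, hp, hpz⟩ := hint (ω z)
    exact ⟨p, hp, ω.injective (by rw [map_zero, Polynomial.hom_eval₂]; exact hpz)⟩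
  · right
    obtain ⟨M, hM, hQM⟩ := Ideal.exists_le_maximal Q hPb.ne_top
    have hlt : Q.height < n := by
      have hQM' : Q < M := lt_of_le_of_ne hQM fun h => hmax (h ▸ hM)
      have h1 := Ideal.height_strict_mono_of_isPrime hQM'
      have h2 := Ideal.height_le_ringKrullDim_of_ne_top hM.ne_top
      rw [hdimk] at h2
      exact lt_of_lt_of_le h1 (by exact_mod_cast h2)
    have hlt' : (maximalIdeal R₁).spanFinrank < n + 1 := by
      obtain ⟨m, hm⟩ := ENat.ne_top_iff_exists.1 hlt.ne_top
      rw [← hm] at hdim hlt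
      have h1 : (maximalIdeal R₁).spanFinrank = m + 1 := by exact_mod_cast hdim
      have h2 : m < n := by exact_mod_cast hlt
      omega
    have hker : RingHom.ker π₁ ≤ RingHom.ker ((residue V).comp i₁) := by
      rw [hπ₁k, Ideal.span_singleton_le_iff_mem, RingHom.mem_ker, RingHom.comp_apply, hα,
        residue_eq_zero_iff]
      exact map_nonunit i x hxm
    have hcomp : π₁.comp α =
        ((algebraMap (MvPolynomial (Fin n) (ResidueField R)) T).comp C).comp (residue R) := by
      refine RingHom.ext fun r => ?_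
      show π₁ (algebraMap B R₁ (algebraMap R B r)) =
        algebraMap (MvPolynomial (Fin n) (ResidueField R)) T (C (residue R r))
      rw [hπ₁, ← RingHom.comp_apply π, hπC]
      rfl
    exact ⟨hlt', divisor_data Q π₁ hπ₁s α hcomp ((residue V).comp i₁) hker⟩

end Groth.Agent.H4.RegExt.Chart
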