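import Groth.Agent.H4.RegExt.Center
import Groth.Agent.H4.WeilExt
import Groth.Agent.H4.LineConst
import Mathlib.AlgebraicGeometry.SpreadingOut
import Mathlib.AlgebraicGeometry.FunctionField
import Groth.Agent.Lib.WittU.Geom

/-!
Proper group schemes have no rational curves.
-/

set_option autoImplicit false
set_option linter.style.haveILetI false

universe u

open CategoryTheory Limits AlgebraicGeometry IsLocalRing MonoidalCategory CartesianMonoidalCategory MonObj

namespace Groth.Agent.H4.RegExt

/-- Points of a proper group over a field with values in a purely transcendental extension are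
rational. -/
theorem exists_const {k : Type u} [Field k] (A : Over (Spec (CommRingCat.of k))) [GrpObj A]
    [IsProper A.hom] (n : ℕ)
    (a : Spec (CommRingCat.of (FractionRing (MvPolynomial (Fin n) k))) ⟶ A.left)
    (ha : a ≫ A.hom = sm (algebraMap k (FractionRing (MvPolynomial (Fin n) k)))) :
    ∃ c : Spec (CommRingCat.of k) ⟶ A.left, c ≫ A.hom = 𝟙 _ ∧
      sm (algebraMap k (FractionRing (MvPolynomial (Fin n) k))) ≫ c = a := by
  let P := CommRingCat.of (MvPolynomial (ULift.{u} (Fin n)) k)
  let K := FractionRing (MvPolynomial (Fin n) k)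
  let e : MvPolynomial (ULift.{u} (Fin n)) k ≃ₐ[k] MvPolynomial (Fin n) k :=
    MvPolynomial.renameEquiv k Equiv.ulift
  let ξ : P ⟶ CommRingCat.of K :=
    CommRingCat.ofHom ((algebraMap (MvPolynomial (Fin n) k) K).comp e.toAlgHom.toRingHom)
  letI : Algebra P K := ξ.hom.toAlgebra
  haveI : IsFractionRing P K :=
    (IsFractionRing.isFractionRing_iff_of_base_ringEquiv (R := MvPolynomial (Fin n) k) K
      e.symm.toRingEquiv).1 inferInstance
  let X := Spec P
  let hX : X ⟶ Spec (CommRingCat.of k) := Spec.map (CommRingCat.ofHom MvPolynomial.C)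
  let ζ := genericPoint X
  letI : Algebra P X.functionField := (StructureSheaf.toStalk P ζ).hom.toAlgebra
  haveI : IsFractionRing P X.functionField := functionField_isFractionRing_of_affine P
  let ε : (CommRingCat.of K) ⟶ X.presheaf.stalk ζ :=
    CommRingCat.ofHom (IsLocalization.algEquiv (nonZeroDivisors P) K X.functionField).toAlgHom.toRingHom
  haveI : IsIso ε := (ConcreteCategory.isIso_iff_bijective ε).2
    (IsLocalization.algEquiv (nonZeroDivisors P) K X.functionField).bijective
  have hε : ξ ≫ ε = StructureSheaf.toStalk P ζ :=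
    CommRingCat.hom_ext (RingHom.ext fun p =>
      (IsLocalization.algEquiv (nonZeroDivisors P) K X.functionField).commutes p)
  have hfs : X.fromSpecStalk ζ = Spec.map ε ≫ Spec.map ξ := by
    rw [← Spec.map_comp, hε]; exact Spec.fromSpecStalk_eq' P ζ
  have hkξ : CommRingCat.ofHom MvPolynomial.C ≫ ξ = CommRingCat.ofHom (algebraMap k K) := by
    ext c
    show algebraMap (MvPolynomial (Fin n) k) K (e (MvPolynomial.C c)) = _
    rw [show e (MvPolynomial.C c) = MvPolynomial.C c from e.commutes c]
    exact (IsScalarTower.algebraMap_apply k (MvPolynomial (Fin n) k) K c).symm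
  obtain ⟨U, hζU, f, hf, hfA⟩ := spread_out_of_isGermInjective' hX A.hom (x := ζ)
    (Spec.map ε ≫ a) (by
      rw [Category.assoc, ha, hfs, Category.assoc]
      congr 1
      show Spec.map _ = Spec.map ξ ≫ Spec.map _
      rw [← Spec.map_comp, hkξ])
  let Xo := LineConst.aff (Spec (CommRingCat.of k)) (ULift.{u} (Fin n))
  let e' : X ≅ Xo.left := (AffineSpace.SpecIso (ULift.{u} (Fin n)) (CommRingCat.of k)).symm
  have he' : e'.hom ≫ Xo.hom = hX := AffineSpace.SpecIso_inv_over _
  let U' : Xo.left.Opens := e'.inv ⁻¹ᵁ U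
  haveI : Smooth Xo.hom := by
    exact Groth.Agent.Lib.WittU.Geom.smooth_affineSpace _ _
  haveI : IsSeparated Xo.hom := inferInstanceAs (IsSeparated (𝔸(_; Spec (CommRingCat.of k)) ↘ _))
  haveI : QuasiCompact Xo.hom := inferInstanceAs (QuasiCompact (𝔸(_; Spec (CommRingCat.of k)) ↘ _))
  haveI : GeometricallyIntegral Xo.hom :=
    inferInstanceAs (GeometricallyIntegral (𝔸(_; Spec (CommRingCat.of k)) ↘ _))
  obtain ⟨G, hG, hGf⟩ := WeilExt.exists_extension (X := Xo) (A := A) U' ⟨e'.hom ζ, by
      show e'.inv (e'.hom ζ) ∈ U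
      rw [← Scheme.Hom.comp_apply, Iso.hom_inv_id]
      exact hζU⟩ ((e'.inv ∣_ U) ≫ f) (by
      rw [Category.assoc, hfA, morphismRestrict_ι_assoc]
      congr 1
      rw [Iso.inv_comp_eq, he'])
  let H : Xo ⟶ A := Over.homMk G hG
  let c : 𝟙_ (Over (Spec (CommRingCat.of k))) ⟶ A := LineConst.vecPt _ _ 0 ≫ H
  have hH : G = Xo.hom ≫ c.left := congrArg (fun z => z.left) (LineConst.eq_const _ A H)
  refine ⟨c.left, Over.w c, ?_⟩
  have hfX : f = U.ι ≫ hX ≫ c.left := by
    rw [← cancel_epi (e'.inv ∣_ U), ← hGf, hH, morphismRestrict_ι_assoc]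
    congr 1
    rw [← Category.assoc, Iso.inv_comp_eq e' |>.2 he'.symm]
  have h1 : Spec.map ε ≫ a = X.fromSpecStalk ζ ≫ hX ≫ c.left := by
    rw [hf, hfX, Scheme.Opens.fromSpecStalkOfMem_ι_assoc]
  rw [hfs, Category.assoc, cancel_epi] at h1
  rw [h1]
  show Spec.map _ ≫ _ = Spec.map ξ ≫ Spec.map _ ≫ _
  rw [← Spec.map_comp_assoc, hkξ]

/-- Proper group schemes have no rational curves. -/
theorem noRat_of_grpObj {S : Scheme.{u}} (A : Over S) [GrpObj A] [IsProper A.hom] : NoRat A.hom := by
  intro k _ n s a ha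
  let K := FractionRing (MvPolynomial (Fin n) k)
  letI : GrpObj ((Over.pullback s).obj A) := Functor.grpObjObj (F := Over.pullback s)
  haveI : IsProper ((Over.pullback s).obj A).hom := inferInstanceAs (IsProper (pullback.snd A.hom s))
  let a' : Spec (CommRingCat.of K) ⟶ pullback A.hom s := pullback.lift a (sm (algebraMap k K)) ha
  obtain ⟨c, hc, hca⟩ := exists_const ((Over.pullback s).obj A) n a' (pullback.lift_snd _ _ _)
  refine ⟨c ≫ pullback.fst A.hom s, ?_, ?_⟩
  · rw [Category.assoc, pullback.condition]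
    exact (Category.assoc _ _ _).symm.trans ((congrArg (· ≫ s) hc).trans (Category.id_comp s))
  · have h := congrArg (· ≫ pullback.fst A.hom s) hca
    simp only [Category.assoc] at h
    exact h.trans (pullback.lift_fst _ _ _)

end Groth.Agent.H4.RegExt
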