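import Groth.Agent.H4.RegExt.Center
import Groth.Agent.S2266
import Groth.Agent.H46.Dvr
import Groth.Agent.H46.QFin
import Groth.Agent.H75.RedKer
import Groth.Agent.Lib.Regular.UFD
import Groth.Agent.Lib.Regular.Serre
import Mathlib.AlgebraicGeometry.ZariskisMainTheorem
import Mathlib.AlgebraicGeometry.Morphisms.Integral

/-!
Points of proper schemes without rational curves with values in the fraction field of a regular
local ring extend to the local ring.
-/

set_option autoImplicit false
set_option linter.style.haveILetI false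

universe u

open CategoryTheory Limits AlgebraicGeometry IsLocalRing

namespace Groth.Agent.H4.RegExt

variable {S Z : Scheme.{u}}

section points

variable {Γ₀ : Scheme.{u}}

/-- For a point `z` of an integral scheme `γ : Γ → Spec R` with function field `K` which is the
closed point of a field or of a discrete valuation: the data used to bound the residue field. -/
theorem exists_local_data [IsLocallyNoetherian Γ₀] [IsIntegral Γ₀] {R : Type u} [CommRing R]
    [IsDomain R] {K : Type u} [Field K] [Algebra R K] [IsFractionRing R K]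
    (γ : Γ₀ ⟶ Spec (CommRingCat.of R)) (g : Spec (CommRingCat.of K) ⟶ Γ₀) [IsDominant g]
    (hg : g ≫ γ = sm (algebraMap R K)) (z : Γ₀) :
    ∃ (B : Type u) (_ : CommRing B) (_ : IsLocalRing B) (_ : IsNoetherianRing B) (_ : IsDomain B)
      (_ : Algebra B K) (_ : IsFractionRing B K) (f : R →+* B)
      (j : Spec (CommRingCat.of B) ⟶ Γ₀), j (closedPoint B) = z ∧
        sm (algebraMap B K) ≫ j = g ∧ j ≫ γ = sm f ∧ (algebraMap B K).comp f = algebraMap R K := by
  have hgen : g (closedPoint K) = genericPoint Γ₀ := by
    have h := g.denseRange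
    rw [denseRange_iff_closure_range, show Set.range g = {g (closedPoint K)} from
      Set.eq_singleton_iff_unique_mem.2 ⟨Set.mem_range_self _, by
        rintro _ ⟨y, rfl⟩; rw [Subsingleton.elim (α := PrimeSpectrum K) y (closedPoint K)]⟩] at h
    exact IsGenericPoint.eq (S := Set.univ) h (genericPoint_spec Γ₀)
  have hsp : g (closedPoint K) ⤳ z := hgen ▸ (genericPoint_spec Γ₀).specializes trivial
  let θ : Γ₀.presheaf.stalk z ⟶ CommRingCat.of K :=
    Γ₀.presheaf.stalkSpecializes hsp ≫ Scheme.stalkClosedPointTo g
  have hθ : Spec.map θ ≫ Γ₀.fromSpecStalk z = g := by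
    rw [Spec.map_comp, Category.assoc, Scheme.SpecMap_stalkSpecializes_fromSpecStalk,
      Scheme.Spec_stalkClosedPointTo_fromSpecStalk]
  let f' : CommRingCat.of R ⟶ Γ₀.presheaf.stalk z := Spec.preimage (Γ₀.fromSpecStalk z ≫ γ)
  have hf' : Spec.map f' = Γ₀.fromSpecStalk z ≫ γ := Spec.map_preimage _
  have hcomp : θ.hom.comp f'.hom = algebraMap R K := by
    have h : f' ≫ θ = CommRingCat.ofHom (algebraMap R K) := Spec.map_injective (by
      rw [Spec.map_comp, hf', ← Category.assoc, hθ]; exact hg)
    exact congrArg CommRingCat.Hom.hom h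
  have hinj : Function.Injective θ.hom := by
    rw [RingHom.injective_iff_ker_eq_bot]
    let q : PrimeSpectrum (Γ₀.presheaf.stalk z) := (Spec.map θ) (closedPoint K)
    have hq : Γ₀.fromSpecStalk z q = genericPoint Γ₀ := by
      show Γ₀.fromSpecStalk z ((Spec.map θ) (closedPoint K)) = _
      rw [← Scheme.Hom.comp_apply, hθ]; exact hgen
    have h0 : Γ₀.fromSpecStalk z (⊥ : PrimeSpectrum (Γ₀.presheaf.stalk z)) ⤳ genericPoint Γ₀ := by
      rw [← hq]
      exact ((PrimeSpectrum.le_iff_specializes _ q).1 bot_le).map (Γ₀.fromSpecStalk z).continuous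
    have h1 : Γ₀.fromSpecStalk z (⊥ : PrimeSpectrum (Γ₀.presheaf.stalk z)) = genericPoint Γ₀ :=
      (h0.antisymm ((genericPoint_spec Γ₀).specializes trivial)).eq
    have h2 := (Γ₀.fromSpecStalk z).isEmbedding.injective (hq.trans h1.symm)
    have h3 : q.asIdeal = RingHom.ker θ.hom := by
      show Ideal.comap θ.hom (maximalIdeal K) = _
      rw [IsLocalRing.maximalIdeal_eq_bot]
      rfl
    rw [← h3, h2]
    rfl
  letI : Algebra (Γ₀.presheaf.stalk z) K := θ.hom.toAlgebra
  haveI : IsFractionRing (Γ₀.presheaf.stalk z) K := by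
    refine ⟨fun y => ?_, fun w => ?_, fun {x y} h => ⟨1, by simpa using hinj h⟩⟩
    · exact isUnit_iff_ne_zero.2 ((map_ne_zero_iff _ hinj).2 (nonZeroDivisors.coe_ne_zero y))
    · obtain ⟨r, s, hs, rfl⟩ := IsFractionRing.div_surjective (A := R) w
      have hs0 : algebraMap R K s ≠ 0 :=
        (map_ne_zero_iff _ (IsFractionRing.injective R K)).2 (nonZeroDivisors.ne_zero hs)
      refine ⟨⟨f'.hom r, f'.hom s, mem_nonZeroDivisors_of_ne_zero fun h => hs0 ?_⟩, ?_⟩
      · rw [← hcomp, RingHom.comp_apply, h, map_zero]
      · show _ * θ.hom (f'.hom s) = θ.hom (f'.hom r)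
        rw [← RingHom.comp_apply θ.hom, ← RingHom.comp_apply θ.hom, hcomp, div_mul_cancel₀ _ hs0]
  exact ⟨Γ₀.presheaf.stalk z, inferInstance, inferInstance, inferInstance, inferInstance,
    θ.hom.toAlgebra, inferInstance, f'.hom, Γ₀.fromSpecStalk z, Scheme.fromSpecStalk_closedPoint,
    hθ, hf'.symm, hcomp⟩

/-- Every point of `Γ` is an algebraic point over the residue field of its image. -/
theorem exists_algebraic_point (p : Z ⟶ S) [IsProper p] (hnr : NoRat p) (d : ℕ) (hd : ExtBelow p d)
    {R : Type u} [CommRing R] [IsRegularLocalRing R] [IsDomain R]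
    (hR : (maximalIdeal R).spanFinrank ≤ d) {K : Type u} [Field K] [Algebra R K] [IsFractionRing R K]
    (b : Spec (CommRingCat.of R) ⟶ S) [IsLocallyNoetherian Γ₀] [IsIntegral Γ₀]
    (m : Γ₀ ⟶ pullback p b) [IsClosedImmersion m]
    (g : Spec (CommRingCat.of K) ⟶ Γ₀) [IsDominant g]
    (hg : g ≫ m ≫ pullback.snd p b = sm (algebraMap R K)) (z : Γ₀) :
    ∃ (P : Ideal R) (_ : P.IsPrime) (L : Type u) (_ : Field L)
      (ι : ResidueField (Localization.AtPrime P) →+* L) (c : Spec (CommRingCat.of L) ⟶ Γ₀),
      ι.IsIntegral ∧ z ∈ Set.range c ∧ (m ≫ pullback.snd p b) z = ⟨P, inferInstance⟩ ∧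
      c ≫ m ≫ pullback.snd p b =
        sm ι ≫ sm (residue (Localization.AtPrime P)) ≫ sm (algebraMap R (Localization.AtPrime P)) := by
  obtain ⟨B, _, _, _, _, _, _, f, j, hjz, hjg, hjf, hfK⟩ :=
    exists_local_data (m ≫ pullback.snd p b) g hg z
  let P := (maximalIdeal B).comap f
  have hPz : (m ≫ pullback.snd p b) z = ⟨P, inferInstance⟩ := by
    rw [← hjz, ← Scheme.Hom.comp_apply, hjf]
    rfl
  let RP := Localization.AtPrime P
  have hunit : ∀ y : P.primeCompl, IsUnit (f y) := fun y => by
    by_contra h
    exact y.2 ((mem_maximalIdeal _).2 h)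
  let ρ : RP →+* B := IsLocalization.lift (M := P.primeCompl) hunit
  have hρ : ρ.comp (algebraMap R RP) = f := IsLocalization.lift_comp hunit
  letI : Algebra RP K := ((algebraMap B K).comp ρ).toAlgebra
  haveI : IsScalarTower R RP K := IsScalarTower.of_algebraMap_eq fun r => by
    show _ = algebraMap B K (ρ.comp (algebraMap R RP) r)
    rw [hρ, ← RingHom.comp_apply (algebraMap B K), hfK]
  haveI : IsFractionRing RP K :=
    IsFractionRing.isFractionRing_of_isDomain_of_isLocalization P.primeCompl RP K
  haveI : IsLocalHom ρ := ⟨fun r hr => by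
    obtain ⟨⟨a, y⟩, rfl⟩ := IsLocalization.mk'_surjective P.primeCompl r
    rw [IsLocalization.AtPrime.isUnit_mk'_iff]
    intro ha
    rw [show ρ (IsLocalization.mk' RP a y) = f a * ↑((hunit y).unit⁻¹) from
      (IsLocalization.lift_mk' hunit a y)] at hr
    exact (mem_maximalIdeal _).1 ha (isUnit_of_mul_isUnit_left hr)⟩
  by_cases hB : IsField B
  · -- the generic point
    have hsurj : Function.Surjective (algebraMap B K) := fun w => by
      obtain ⟨a, s, hs, rfl⟩ := IsFractionRing.div_surjective (A := B) w
      obtain ⟨t, ht⟩ := hB.mul_inv_cancel (nonZeroDivisors.ne_zero hs)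
      refine ⟨a * t, ?_⟩
      rw [eq_div_iff ((map_ne_zero_iff _ (IsFractionRing.injective B K)).2 (nonZeroDivisors.ne_zero hs)),
        ← map_mul, mul_assoc, mul_comm t, ht, mul_one]
    haveI : IsLocalHom (algebraMap B K) := ⟨fun a ha => by
      obtain ⟨t, ht⟩ := hB.mul_inv_cancel (a := a) fun h => ha.ne_zero (by rw [h, map_zero])
      exact IsUnit.of_mul_eq_one t ht⟩
    haveI : IsLocalHom (algebraMap RP K) := RingHom.isLocalHom_comp (algebraMap B K) ρ
    let ι : ResidueField RP →+* K := ResidueField.lift (algebraMap RP K)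
    have hι : ι.comp (residue RP) = algebraMap RP K := ResidueField.lift_comp_residue _
    refine ⟨P, inferInstance, K, inferInstance, ι, g, RingHom.isIntegral_of_surjective _ fun w => ?_,
      ?_, hPz, ?_⟩
    · obtain ⟨r, s, hs, rfl⟩ := IsFractionRing.div_surjective (A := RP) w
      refine ⟨residue RP r / residue RP s, ?_⟩
      rw [map_div₀, ← RingHom.comp_apply ι, ← RingHom.comp_apply ι, hι]
    · refine ⟨closedPoint K, ?_⟩
      rw [← hjg, Scheme.Hom.comp_apply, ← hjz]
      congr 1
      exact IsLocalRing.comap_closedPoint (algebraMap B K)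
    · rw [hg, sm_comp_assoc, hι, sm_comp]
      congr 1
      exact IsScalarTower.algebraMap_eq R RP K
  · haveI : IsRegularLocalRing RP :=
      Groth.Agent.Lib.Regular.Serre.isRegularLocalRing_localization P
    obtain ⟨V, hV, hBV, hBVm⟩ := Groth.Agent.H46.Dvr.exists_dvr_dominating (L := K) hB
    haveI := hV
    let iB : B →+* V := (algebraMap B K).codRestrict V.toSubring hBV
    haveI : IsLocalHom iB := ⟨fun r hr => by
      by_contra h
      have h1 := hBVm r h
      rw [show algebraMap B K r = (iB r : K) from rfl,
        ← ValuationSubring.valuation_lt_one_iff] at h1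
      exact h1 hr⟩
    let iP : RP →+* V := iB.comp ρ
    haveI : IsLocalHom iP := RingHom.isLocalHom_comp iB ρ
    let ψ : Spec (CommRingCat.of V) ⟶ Z := sm iB ≫ j ≫ m ≫ pullback.fst p b
    have hψ : ψ ≫ p = sm iP ≫ (sm (algebraMap R RP) ≫ b) := by
      simp only [ψ, Category.assoc, pullback.condition]
      rw [reassoc_of% hjf, sm_comp_assoc, sm_comp_assoc]
      congr 2
      rw [RingHom.comp_assoc, hρ]
    have hdim : (maximalIdeal RP).spanFinrank ≤ d := by
      have h1 : ringKrullDim RP ≤ ringKrullDim R := by
        rw [IsLocalization.AtPrime.ringKrullDim_eq_height P RP]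
        exact Ideal.height_le_ringKrullDim_of_ne_top (Ideal.IsPrime.ne_top inferInstance)
      rw [← IsRegularLocalRing.spanFinrank_maximalIdeal (R := RP),
        ← IsRegularLocalRing.spanFinrank_maximalIdeal (R := R)] at h1
      exact le_trans (by exact_mod_cast h1) hR
    obtain ⟨L, _, ι, τ, c₀, hι, hτ, hc, hcψ⟩ :=
      center' p hnr d hd V RP iP (fun r => rfl) hdim (sm (algebraMap R RP) ≫ b) ψ hψ
    let cW : Spec (CommRingCat.of L) ⟶ pullback p b :=
      pullback.lift c₀ (sm ι ≫ sm (residue RP) ≫ sm (algebraMap R RP))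
        (by rw [hc]; simp only [Category.assoc])
    have hcW : sm τ ≫ cW = sm (residue V) ≫ sm iB ≫ j ≫ m := by
      refine pullback.hom_ext ?_ ?_
      · rw [Category.assoc, pullback.lift_fst, hcψ]
        simp only [ψ, Category.assoc]
      · simp only [cW, Category.assoc, pullback.lift_snd]
        rw [hjf]
        simp only [sm_comp_assoc, sm_comp]
        congr 1
        refine RingHom.ext fun r => ?_
        simp only [RingHom.comp_apply]
        rw [← RingHom.comp_apply τ, hτ, ResidueField.map_residue]
        exact congrArg (fun x => residue V (iB x)) (DFunLike.congr_fun hρ r)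
    have hpt : (sm τ) (closedPoint (ResidueField V)) = closedPoint L :=
      Subsingleton.elim (α := PrimeSpectrum L) _ _
    obtain ⟨c, hcm⟩ := Groth.Agent.H75.RedKer.exists_lift cW m (by
      rintro _ ⟨y, rfl⟩
      rw [Subsingleton.elim (α := PrimeSpectrum L) y (closedPoint L), ← hpt,
        ← Scheme.Hom.comp_apply, hcW, ← Category.assoc, ← Category.assoc, Scheme.Hom.comp_apply]
      exact Set.mem_range_self _)
    have hcj : sm τ ≫ c = sm (residue V) ≫ sm iB ≫ j := by
      rw [← cancel_mono m, Category.assoc, hcm, hcW]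
      simp only [Category.assoc]
    refine ⟨P, inferInstance, L, inferInstance, ι, c, hι, ⟨closedPoint L, ?_⟩, hPz, ?_⟩
    · rw [← hpt, ← Scheme.Hom.comp_apply, hcj, ← hjz, Scheme.Hom.comp_apply, Scheme.Hom.comp_apply]
      congr 1
      rw [show (sm (residue V)) (closedPoint (ResidueField V)) = closedPoint V from
        IsLocalRing.comap_closedPoint (residue V)]
      exact IsLocalRing.comap_closedPoint iB
    · rw [reassoc_of% hcm, pullback.lift_snd]

end points

/-- A finite morphism to the spectrum of a normal domain with a dense point in the fraction field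
is an isomorphism. -/
theorem isIso_of_finite {R : Type u} [CommRing R] [IsDomain R] [IsIntegrallyClosed R] {K : Type u}
    [Field K] [Algebra R K] [IsFractionRing R K] {Γ₀ : Scheme.{u}} [IsReduced Γ₀]
    (γ : Γ₀ ⟶ Spec (CommRingCat.of R)) [IsFinite γ] (g : Spec (CommRingCat.of K) ⟶ Γ₀) [IsDominant g]
    (hg : g ≫ γ = sm (algebraMap R K)) : IsIso γ := by
  haveI : IsAffine Γ₀ := isAffine_of_isAffineHom γ
  let A := Γ(Γ₀, ⊤)
  let h : CommRingCat.of R ⟶ A := Spec.preimage (Γ₀.isoSpec.inv ≫ γ)
  have hh : Spec.map h = Γ₀.isoSpec.inv ≫ γ := Spec.map_preimage _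
  haveI : IsFinite (Spec.map h) := hh ▸ inferInstance
  let θ : A ⟶ CommRingCat.of K := Spec.preimage (g ≫ Γ₀.isoSpec.hom)
  have hθ : Spec.map θ = g ≫ Γ₀.isoSpec.hom := Spec.map_preimage _
  have hcomp : θ.hom.comp h.hom = algebraMap R K := by
    have h1 : h ≫ θ = CommRingCat.ofHom (algebraMap R K) := Spec.map_injective (by
      rw [Spec.map_comp, hh, hθ, Category.assoc, Iso.hom_inv_id_assoc]; exact hg)
    exact congrArg CommRingCat.Hom.hom h1
  haveI : IsDominant (Spec.map θ) := hθ ▸ inferInstance
  haveI : _root_.IsReduced A := inferInstance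
  have hθinj : Function.Injective θ.hom := by
    rw [RingHom.injective_iff_ker_eq_bot, eq_bot_iff]
    have h1 := (PrimeSpectrum.denseRange_comap_iff_ker_le_nilRadical θ.hom).1 (Spec.map θ).denseRange
    rwa [nilradical_eq_zero, Ideal.zero_eq_bot] at h1
  have hbij : Function.Bijective h.hom := by
    refine ⟨fun x y hxy => IsFractionRing.injective R K ?_, fun a => ?_⟩
    · rw [← hcomp, RingHom.comp_apply, hxy, RingHom.comp_apply]
    · obtain ⟨P, hP, hPa⟩ := ((IsFinite.SpecMap_iff h).1 inferInstance).to_isIntegral a
      have hint : IsIntegral R (θ.hom a) := ⟨P, hP, by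
        rw [← hcomp, ← Polynomial.hom_eval₂, hPa, map_zero]⟩
      obtain ⟨r, hr⟩ := IsIntegrallyClosed.isIntegral_iff.1 hint
      exact ⟨r, hθinj (by rw [← RingHom.comp_apply, hcomp, hr])⟩
  haveI : IsIso h := (ConcreteCategory.isIso_iff_bijective h).2 hbij
  rw [show γ = Γ₀.isoSpec.hom ≫ Spec.map h by rw [hh, Iso.hom_inv_id_assoc]]
  infer_instance

/-- Extension from the fraction field to a regular local ring. -/
theorem extBelow (p : Z ⟶ S) [IsProper p] (hnr : NoRat p) : ∀ d, ExtBelow p d := by
  intro d
  induction d with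
  | zero => intro R _ _ K _ _ _ h; exact absurd h (Nat.not_lt_zero _)
  | succ d hd =>
    intro R _ _ K _ _ _ hR b a ha
    haveI : IsDomain R := Groth.Agent.Lib.Regular.Quotient.isDomain R
    haveI : IsIntegrallyClosed R := Groth.Agent.Lib.Regular.UFD.isIntegrallyClosed R
    let x : Spec (CommRingCat.of K) ⟶ pullback p b := pullback.lift a (sm (algebraMap R K)) ha
    let m : x.image ⟶ pullback p b := x.imageι
    let g : Spec (CommRingCat.of K) ⟶ x.image := x.toImage
    haveI : IsLocallyNoetherian (pullback p b) :=
      LocallyOfFiniteType.isLocallyNoetherian (pullback.snd p b)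
    haveI : IsLocallyNoetherian x.image := LocallyOfFiniteType.isLocallyNoetherian m
    haveI : QuasiCompact x := by
      haveI : QuasiCompact (x ≫ pullback.snd p b) := by rw [pullback.lift_snd]; infer_instance
      exact QuasiCompact.of_comp x (pullback.snd p b)
    haveI : IrreducibleSpace (Spec (CommRingCat.of K)) :=
      inferInstanceAs (IrreducibleSpace (PrimeSpectrum K))
    haveI : IrreducibleSpace x.image := (Groth.Agent.S2266.result x).2 ‹_› ‹_›
    haveI : IsReduced x.image := (Groth.Agent.S2266.result x).1
    haveI : IsIntegral x.image := isIntegral_of_irreducibleSpace_of_isReduced x.image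
    have hg : g ≫ m ≫ pullback.snd p b = sm (algebraMap R K) := by
      simp only [g, m, Scheme.Hom.toImage_imageι_assoc, x, pullback.lift_snd]
    let γ : x.image ⟶ Spec (CommRingCat.of R) := m ≫ pullback.snd p b
    haveI : IsProper γ := inferInstance
    haveI : IsDominant g := inferInstanceAs (IsDominant x.toImage)
    have key := exists_algebraic_point p hnr d hd (Nat.lt_succ_iff.1 hR) b m g hg
    haveI : LocallyQuasiFinite γ := by
      refine LocallyQuasiFinite.of_finite_preimage_singleton γ fun y => ?_
      let P := y.asIdeal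
      let RP := Localization.AtPrime P
      let e := sm (residue RP) ≫ sm (algebraMap R RP)
      haveI : IsPreimmersion e := by
        haveI : IsClosedImmersion (sm (residue RP)) := IsClosedImmersion.spec_of_surjective _ residue_surjective
        haveI : IsPreimmersion (sm (algebraMap R RP)) := IsPreimmersion.of_isLocalization P.primeCompl
        infer_instance
      let F := pullback γ e
      let π : F ⟶ x.image := pullback.fst γ e
      haveI : IsLocallyNoetherian F := LocallyOfFiniteType.isLocallyNoetherian (pullback.snd γ e)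
      haveI : CompactSpace F := QuasiCompact.compactSpace_of_compactSpace (pullback.snd γ e)
      have hall : ∀ w : F, IsClosed ({w} : Set F) := by
        intro w
        obtain ⟨Q, _, L, _, ι, c, hι, ⟨l, hl⟩, hQ, hc⟩ := key (π w)
        have hQP : Q = P := by
          have h1 : γ (π w) = y := by
            rw [← Scheme.Hom.comp_apply, pullback.condition, Scheme.Hom.comp_apply,
              Subsingleton.elim (α := PrimeSpectrum (ResidueField RP)) (pullback.snd γ e w)
                (closedPoint (ResidueField RP)), Scheme.Hom.comp_apply,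
              show (sm (residue RP)) (closedPoint (ResidueField RP)) = closedPoint RP from
                IsLocalRing.comap_closedPoint (residue RP)]
            exact PrimeSpectrum.ext (Localization.AtPrime.under_maximalIdeal (I := P))
          exact congrArg PrimeSpectrum.asIdeal (hQ.symm.trans h1)
        subst hQP
        let c' : Spec (CommRingCat.of L) ⟶ F := pullback.lift c (sm ι) hc
        haveI : Subsingleton (Spec (CommRingCat.of L)) := inferInstanceAs (Subsingleton (PrimeSpectrum L))
        have hcl := Groth.Agent.H46.QFin.isClosed_range_of_isIntegral (CommRingCat.ofHom ι) hι c'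
          (pullback.snd γ e) (pullback.lift_snd _ _ _)
        have hw : Set.range c' = {w} := by
          refine Set.eq_singleton_iff_unique_mem.2 ⟨⟨l, ?_⟩, ?_⟩
          · apply π.isEmbedding.injective
            rw [← Scheme.Hom.comp_apply, pullback.lift_fst, hl]
          · rintro _ ⟨l', rfl⟩
            apply π.isEmbedding.injective
            rw [← Scheme.Hom.comp_apply, pullback.lift_fst, Subsingleton.elim l' l, hl]
        exact hw ▸ hcl
      haveI : TopologicalSpace.NoetherianSpace F :=
        haveI : IsNoetherian F := {}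
        inferInstance
      have hfin : (Set.univ : Set F).Finite := by
        have h1 : (Set.univ : Set F) ⊆ ⋃ T ∈ irreducibleComponents F, T := fun w _ =>
          Set.mem_biUnion (irreducibleComponent_mem_irreducibleComponents w) mem_irreducibleComponent
        refine ((TopologicalSpace.NoetherianSpace.finite_irreducibleComponents (α := F)).biUnion
          fun T hT => ?_).subset h1
        obtain ⟨η, hη⟩ := QuasiSober.sober hT.1 (isClosed_of_mem_irreducibleComponents T hT)
        rw [← hη.def, (hall η).closure_eq]
        exact Set.finite_singleton η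
      refine (hfin.image π).subset fun w hw => ?_
      have hr : Set.range π = γ ⁻¹' Set.range e := Scheme.Pullback.range_fst γ e
      have hye : y ∈ Set.range e := by
        refine ⟨closedPoint (ResidueField RP), ?_⟩
        rw [Scheme.Hom.comp_apply,
          show (sm (residue RP)) (closedPoint (ResidueField RP)) = closedPoint RP from
            IsLocalRing.comap_closedPoint (residue RP)]
        exact PrimeSpectrum.ext (Localization.AtPrime.under_maximalIdeal (I := P))
      have : w ∈ Set.range π := by rw [hr, Set.mem_preimage, Set.mem_singleton_iff.1 hw]; exact hye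
      obtain ⟨v, rfl⟩ := this
      exact ⟨v, trivial, rfl⟩
    haveI : IsFinite γ := IsFinite.of_isProper_of_locallyQuasiFinite γ
    haveI : IsIso γ := isIso_of_finite γ g hg
    refine ⟨inv γ ≫ m ≫ pullback.fst p b, ?_, ?_⟩
    · simp only [Category.assoc, pullback.condition]
      rw [IsIso.inv_comp_eq]
      simp only [γ, Category.assoc]
    · rw [← hg]
      simp only [γ, Category.assoc, IsIso.hom_inv_id_assoc, g, m]
      simp only [Scheme.Hom.toImage_imageι_assoc, x, pullback.lift_fst]

/-- Points with values in the fraction field extend to regular local rings. -/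
theorem exists_lift_regular (p : Z ⟶ S) [IsProper p] (hnr : NoRat p) (R : Type u) [CommRing R]
    [IsRegularLocalRing R] (K : Type u) [Field K] [Algebra R K] [IsFractionRing R K]
    (b : Spec (CommRingCat.of R) ⟶ S) (a : Spec (CommRingCat.of K) ⟶ Z)
    (ha : a ≫ p = sm (algebraMap R K) ≫ b) :
    ∃ φ : Spec (CommRingCat.of R) ⟶ Z, φ ≫ p = b ∧ sm (algebraMap R K) ≫ φ = a :=
  extBelow p hnr _ R K (Nat.lt_succ_self _) b a ha

end Groth.Agent.H4.RegExt
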