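import Groth.Agent.H4.RegExt.Center
import Groth.Agent.H4.RatExt
import Groth.Agent.Lib.ProjSpace.Basic
import Groth.Agent.Lib.ProjSpace.Dim
import Groth.Agent.Lib.Cyc.SmoothReg
import Groth.Agent.Lib.Cyc.TorPD
import Mathlib.AlgebraicGeometry.AlgClosed.Basic
import Mathlib.RingTheory.Polynomial.UniqueFactorization

/-!
Proper schemes over an algebraically closed field without rational curves: purely transcendental
points over any extension field are rational.
-/

set_option autoImplicit false
set_option linter.style.haveILetI false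

universe u

open CategoryTheory Limits AlgebraicGeometry IsLocalRing TopologicalSpace Polynomial

namespace Groth.Agent.H4.RegExt

variable {k : Type u} [Field k] [IsAlgClosed k] {Y : Scheme.{u}}

/-- Morphisms from the projective line have one-point image. -/
def NoP1 (p : Y ⟶ Spec (CommRingCat.of k)) : Prop :=
  ∀ g : CohB1.ProjSpace 1 k ⟶ Y, g ≫ p = CohB1.ProjSpace.toSpec 1 k →
    ∃ y : Y, Set.range g.base ⊆ {y}

omit [IsAlgClosed k] in
/-- A morphism on an open of the affine line extends to the projective line, hence is constant. -/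
theorem range_subsingleton_open (p : Y ⟶ Spec (CommRingCat.of k)) [IsProper p] (h : NoP1 p)
    {W : Scheme.{u}} (j : W ⟶ CohB1.ProjSpace 1 k) [IsOpenImmersion j] [Nonempty W] (f : W ⟶ Y)
    (hf : f ≫ p = j ≫ CohB1.ProjSpace.toSpec 1 k) : ∃ y : Y, Set.range f.base ⊆ {y} := by
  let P := CohB1.ProjSpace 1 k
  let s := CohB1.ProjSpace.toSpec 1 k
  haveI : IsLocallyNoetherian P := LocallyOfFiniteType.isLocallyNoetherian s
  let V : P.Opens := j.opensRange
  have hV : Dense (V : Set P) := V.2.dense ⟨j (Classical.arbitrary W), _, rfl⟩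
  let σ : (V : Scheme.{u}) ⟶ pullback p s := pullback.lift (j.isoOpensRange.inv ≫ f) V.ι (by
    rw [Category.assoc, hf, ← Category.assoc, Iso.inv_comp_eq j.isoOpensRange |>.2
      j.isoOpensRange_hom_ι.symm])
  haveI : UniversallyClosed (pullback.snd p s) := inferInstance
  obtain ⟨U, hVU, σ', hσ', hσV, hU⟩ := RatExt.exists_ext
    (fun y _ => Groth.Agent.Lib.Cyc.SmoothReg.isRegularLocalRing_stalk s y) (pullback.snd p s)
    (pullback.snd p s).isClosedMap V hV σ (pullback.lift_snd _ _ _)
  have hUtop : U = ⊤ := eq_top_iff.2 fun y _ => hU y <| by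
    refine (Groth.Agent.Lib.Cyc.TorPD.ringKrullDim_stalk_le y).trans ?_
    rw [Groth.Agent.Lib.ProjSpace.Dim.topologicalKrullDim_projSpace_of_field]
    norm_num
  haveI : IsIso U.ι := by
    haveI : Surjective U.ι := ⟨fun y => by
      obtain ⟨z, hz⟩ : y ∈ Set.range U.ι := by rw [Scheme.Opens.range_ι, hUtop]; trivial
      exact ⟨z, hz⟩⟩
    exact (isIso_iff_isOpenImmersion_and_surjective _).mpr ⟨inferInstance, inferInstance⟩
  obtain ⟨y, hy⟩ := h (inv U.ι ≫ σ' ≫ pullback.fst p s) (by
    simp only [Category.assoc, pullback.condition]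
    rw [reassoc_of% hσ', IsIso.inv_hom_id_assoc])
  refine ⟨y, ?_⟩
  rintro _ ⟨w, rfl⟩
  apply hy
  refine ⟨j w, ?_⟩
  have e : j ≫ inv U.ι ≫ σ' ≫ pullback.fst p s = f := by
    rw [← j.isoOpensRange_hom_ι, ← Scheme.homOfLE_ι P hVU, Category.assoc, Category.assoc,
      IsIso.hom_inv_id_assoc, reassoc_of% hσV, pullback.lift_fst, Iso.hom_inv_id_assoc]
  conv_rhs => rw [← e]
  rfl

omit [IsAlgClosed k] in
/-- Morphisms from principal opens of the affine line are constant. -/
theorem range_subsingleton_away (p : Y ⟶ Spec (CommRingCat.of k)) [IsProper p] (h : NoP1 p)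
    (g : k[X]) (hg : g ≠ 0) (L : Type u) [CommRing L] [Algebra k[X] L] [IsLocalization.Away g L]
    (f : Spec (CommRingCat.of L) ⟶ Y) (hf : f ≫ p = sm ((algebraMap k[X] L).comp C)) :
    ∃ y : Y, Set.range f.base ⊆ {y} := by
  haveI : Nontrivial L := (IsLocalization.injective L (M := Submonoid.powers g)
    (powers_le_nonZeroDivisors_of_noZeroDivisors hg)).nontrivial
  haveI : Nonempty (Spec (CommRingCat.of L)) := inferInstanceAs (Nonempty (PrimeSpectrum L))
  let e : MvPolynomial (Fin 1) k ≃ₐ[k] k[X] := MvPolynomial.uniqueAlgEquiv k (Fin 1)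
  haveI : IsIso (CommRingCat.ofHom e.toAlgHom.toRingHom) :=
    (ConcreteCategory.isIso_iff_bijective _).2 e.bijective
  let j : Spec (CommRingCat.of L) ⟶ CohB1.ProjSpace 1 k :=
    sm (algebraMap k[X] L) ≫ sm e.toAlgHom.toRingHom ≫ Groth.Agent.Lib.ProjSpace.Basic.chartι k (0 : Fin 2)
  haveI : IsOpenImmersion (sm (algebraMap k[X] L)) := IsOpenImmersion.of_isLocalization g
  refine range_subsingleton_open p h j f ?_
  rw [hf]
  simp only [j, Category.assoc, Groth.Agent.Lib.ProjSpace.Basic.chartι_toSpec]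
  show sm _ = sm _ ≫ sm _ ≫ sm _
  rw [sm_comp, sm_comp]
  congr 1
  exact RingHom.ext fun c => congrArg (algebraMap k[X] L) (e.commutes c).symm

/-- Over any extension field, points in the rational function field in one variable are rational. -/
theorem exists_const_one (p : Y ⟶ Spec (CommRingCat.of k)) [IsProper p] (h : NoP1 p) (F : Type u)
    [Field F] [Algebra k F] (E : Type u) [Field E] [Algebra F[X] E] [IsFractionRing F[X] E]
    (a : Spec (CommRingCat.of E) ⟶ Y)
    (ha : a ≫ p = sm ((algebraMap F[X] E).comp C) ≫ sm (algebraMap k F)) :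
    ∃ c : Spec (CommRingCat.of F) ⟶ Y,
      c ≫ p = sm (algebraMap k F) ∧ sm ((algebraMap F[X] E).comp C) ≫ c = a := by
  classical
  -- affine neighbourhood
  obtain ⟨W, hW, hxW, -⟩ := exists_isAffineOpen_mem_and_subset (x := a (closedPoint E)) (U := ⊤) trivial
  have hrange : Set.range a ⊆ (W : Set Y) := by
    rintro _ ⟨z, rfl⟩
    rw [Subsingleton.elim (α := PrimeSpectrum E) z (closedPoint E)]
    exact hxW
  let aW : Spec (CommRingCat.of E) ⟶ (W : Scheme.{u}) :=
    IsOpenImmersion.lift W.ι a (by rw [Scheme.Opens.range_ι]; exact hrange)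
  have haW : aW ≫ W.ι = a := IsOpenImmersion.lift_fac _ _ _
  let B := Γ(Y, W)
  let φ : B ⟶ CommRingCat.of E := Spec.preimage (aW ≫ hW.isoSpec.hom)
  have hφ : Spec.map φ ≫ hW.fromSpec = a := by
    rw [Spec.map_preimage, Category.assoc, ← haW]
    congr 1
    exact Iso.hom_inv_id_assoc hW.isoSpec W.ι
  let β : CommRingCat.of k ⟶ B := Spec.preimage (hW.fromSpec ≫ p)
  have hβ : Spec.map β = hW.fromSpec ≫ p := Spec.map_preimage _
  letI : Algebra k B := β.hom.toAlgebra
  haveI : Algebra.FiniteType k B := by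
    have : LocallyOfFiniteType (Spec.map β) := hβ ▸ inferInstance
    rw [HasRingHomProperty.Spec_iff (P := @LocallyOfFiniteType)] at this
    exact this
  have hφk : φ.hom.comp β.hom = ((algebraMap F[X] E).comp C).comp (algebraMap k F) := by
    have h1 : β ≫ φ = CommRingCat.ofHom (((algebraMap F[X] E).comp C).comp (algebraMap k F)) :=
      Spec.map_injective (by rw [Spec.map_comp, hβ, reassoc_of% hφ, ha, sm_comp])
    exact congrArg CommRingCat.Hom.hom h1
  obtain ⟨gens, hgens⟩ := Algebra.FiniteType.out (R := k) (A := B)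
  -- a common denominator
  obtain ⟨⟨Q, hQ0⟩, hQ⟩ := IsLocalization.exist_integer_multiples_of_finset (nonZeroDivisors F[X])
    (gens.image fun b => φ.hom b)
  have hQne : Q ≠ 0 := nonZeroDivisors.ne_zero hQ0
  have hP : ∀ b : gens, ∃ P : F[X], algebraMap F[X] E P = algebraMap F[X] E Q * φ.hom b.1 :=
    fun b => by
    obtain ⟨P, hP⟩ := hQ _ (Finset.mem_image_of_mem _ b.2)
    exact ⟨P, by rw [hP]; exact Algebra.smul_def _ _⟩
  choose P hP using hP
  -- a good value of the variable
  obtain ⟨c₀, hc₀⟩ : ∃ c₀ : k, Q.eval (algebraMap k F c₀) ≠ 0 := by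
    obtain ⟨c₀, hc₀⟩ := Infinite.exists_notMem_finset
      (Q.roots.toFinset.preimage (algebraMap k F) (RingHom.injective _).injOn)
    refine ⟨c₀, fun h0 => hc₀ ?_⟩
    rw [Finset.mem_preimage, Multiset.mem_toFinset, mem_roots hQne]
    exact h0
  -- coefficients
  let coeffs : Finset F := (Q.coeffs ∪ Finset.univ.biUnion fun b => (P b).coeffs) ∪
    {(Q.eval (algebraMap k F c₀))⁻¹}
  let A : Subalgebra k F := Algebra.adjoin k (coeffs : Set F)
  haveI : Algebra.FiniteType k A :=
    (Subalgebra.fg_iff_finiteType _).1 ⟨coeffs, rfl⟩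
  have hAcoeff : ∀ G : F[X], G.coeffs ⊆ coeffs → G ∈ lifts (algebraMap A F) := fun G hG => by
    rw [lifts_iff_coeff_lifts]
    intro i
    by_cases hi : G.coeff i = 0
    · exact ⟨0, by rw [map_zero, hi]⟩
    · exact ⟨⟨_, Algebra.subset_adjoin (hG (coeff_mem_coeffs hi))⟩, rfl⟩
  obtain ⟨QA, hQA⟩ : ∃ QA : A[X], QA.map (algebraMap A F) = Q :=
    (mem_lifts _).1 (hAcoeff Q fun z hz => Finset.mem_union_left _ (Finset.mem_union_left _ hz))
  have hPA : ∀ b, ∃ PA : A[X], PA.map (algebraMap A F) = P b := fun b =>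
    (mem_lifts _).1 (hAcoeff _ fun z hz => Finset.mem_union_left _ (Finset.mem_union_right _
      (Finset.mem_biUnion.2 ⟨b, Finset.mem_univ _, hz⟩)))
  choose PA hPA using hPA
  have hQAne : QA ≠ 0 := fun h0 => hQne (by rw [← hQA, h0, Polynomial.map_zero])
  let L := Localization.Away QA
  haveI : IsDomain L :=
    IsLocalization.isDomain_localization (powers_le_nonZeroDivisors_of_noZeroDivisors hQAne)
  let toE : A[X] →+* E := (algebraMap F[X] E).comp (mapRingHom (algebraMap A F))
  have htoE : Function.Injective toE :=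
    (IsFractionRing.injective F[X] E).comp (map_injective _ Subtype.val_injective)
  have hunit : IsUnit (toE QA) := isUnit_iff_ne_zero.2 fun h0 => hQAne (htoE (by rw [h0, map_zero]))
  let ε : L →+* E := IsLocalization.Away.lift QA hunit
  have hεinj : Function.Injective ε := by
    refine IsLocalization.lift_injective_iff _ |>.2 fun x y => ?_
    exact ⟨fun h => by
        rw [IsLocalization.injective L (powers_le_nonZeroDivisors_of_noZeroDivisors hQAne) h],
      fun h => by rw [htoE h]⟩
  have hεmap : ∀ z, ε (algebraMap A[X] L z) = toE z := fun z => IsLocalization.Away.lift_eq _ _ z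
  -- factor through `L`
  let κL : k →+* L := (algebraMap A[X] L).comp (C.comp (algebraMap k A))
  have hεk : ε.comp κL = φ.hom.comp β.hom := by
    rw [hφk]
    refine RingHom.ext fun c => ?_
    show ε (algebraMap A[X] L (C (algebraMap k A c))) = _
    rw [hεmap]
    show algebraMap F[X] E ((C (algebraMap k A c)).map (algebraMap A F)) = _
    rw [map_C]; rfl
  have hfac : ∀ b : B, φ.hom b ∈ ε.range := by
    intro b
    have hb : b ∈ Algebra.adjoin k (gens : Set B) := hgens ▸ Algebra.mem_top
    induction hb using Algebra.adjoin_induction with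
    | mem b hb =>
      refine ⟨algebraMap A[X] L (PA ⟨b, hb⟩) * IsLocalization.Away.invSelf QA, ?_⟩
      refine mul_left_cancel₀ hunit.ne_zero ?_
      rw [show toE QA = algebraMap F[X] E Q by rw [← hQA]; rfl, ← hP ⟨b, hb⟩]
      rw [show algebraMap F[X] E Q = ε (algebraMap A[X] L QA) by rw [hεmap, ← hQA]; rfl, ← map_mul,
        mul_left_comm, IsLocalization.Away.mul_invSelf, mul_one, hεmap, ← hPA ⟨b, hb⟩]
      rfl
    | algebraMap r => exact ⟨κL r, congr($hεk r)⟩
    | add x y _ _ hx hy => rw [map_add]; exact add_mem hx hy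
    | mul x y _ _ hx hy => rw [map_mul]; exact mul_mem hx hy
  choose φ' hφ' using hfac
  let φL : B →+* L :=
    { toFun := φ'
      map_one' := hεinj (by rw [hφ', map_one, map_one])
      map_mul' := fun x y => hεinj (by rw [map_mul ε, hφ', hφ', hφ', map_mul])
      map_zero' := hεinj (by rw [hφ', map_zero, map_zero])
      map_add' := fun x y => hεinj (by rw [map_add ε, hφ', hφ', hφ', map_add]) }
  have hεφ : ε.comp φL = φ.hom := RingHom.ext hφ'
  have hφLk : φL.comp β.hom = κL := RingHom.ext fun c => hεinj (by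
    rw [show ε ((φL.comp β.hom) c) = φ.hom (β.hom c) from hφ' _]
    exact congr($hεk c).symm)
  -- the evaluation at `c₀`
  have hevu : IsUnit (QA.eval (algebraMap k A c₀)) := by
    refine IsUnit.of_mul_eq_one ⟨(Q.eval (algebraMap k F c₀))⁻¹,
      Algebra.subset_adjoin (Finset.mem_union_right _ (Finset.mem_singleton_self _))⟩
      (Subtype.ext ?_)
    show algebraMap A F (QA.eval (algebraMap k A c₀)) * _ = 1
    rw [← eval_map_apply, hQA]
    exact mul_inv_cancel₀ hc₀
  let σ : L →+* A := IsLocalization.Away.lift QA (g := evalRingHom (algebraMap k A c₀)) hevu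
  have hσmap : ∀ z, σ (algebraMap A[X] L z) = z.eval (algebraMap k A c₀) := fun z =>
    IsLocalization.Away.lift_eq _ _ z
  let str : A →+* L := (algebraMap A[X] L).comp C
  let f₁ : Spec (CommRingCat.of L) ⟶ Y := sm φL ≫ hW.fromSpec
  let f₂ : Spec (CommRingCat.of L) ⟶ Y := sm str ≫ sm σ ≫ f₁
  have hstrk : (str.comp σ).comp κL = κL := RingHom.ext fun c => by
    show str (σ (algebraMap A[X] L (C (algebraMap k A c)))) = _
    rw [hσmap, eval_C]; rfl
  have hf₁p : f₁ ≫ p = sm κL := by
    show (_ ≫ _) ≫ _ = _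
    rw [Category.assoc, ← hβ, ← hφLk]
    exact sm_comp φL β.hom
  have hf₂p : f₂ ≫ p = sm κL := by
    simp only [f₂, Category.assoc, hf₁p, sm_comp_assoc, sm_comp]
    rw [hstrk]
  have hf : f₁ = f₂ := by
    have hκ : κL = algebraMap k L := (IsScalarTower.algebraMap_eq k A[X] L).symm
    haveI : Algebra.FiniteType k L :=
      Algebra.FiniteType.trans (S := A[X]) (.trans (S := A) inferInstance inferInstance)
        (inferInstanceAs (Algebra.FiniteType A[X] L))
    haveI : LocallyOfFiniteType (f₁ ≫ p) := by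
      rw [hf₁p, hκ, HasRingHomProperty.Spec_iff (P := @LocallyOfFiniteType)]
      exact RingHom.finiteType_algebraMap.2 ‹_›
    refine ext_of_apply_eq p Set.univ isOpen_univ.isLocallyClosed dense_univ (fun x _ hx => ?_)
      (hf₁p.trans hf₂p.symm)
    haveI : LocallyOfFiniteType (sm κL) := hf₁p ▸ ‹_›
    let χ' : Spec (CommRingCat.of k) ⟶ Spec (CommRingCat.of L) := pointOfClosedPoint (sm κL) x hx
    let χ : L →+* k := (Spec.preimage χ').hom
    have hχ' : sm χ = χ' := Spec.map_preimage _
    have hχx : χ' (closedPoint k) = x := pointOfClosedPoint_apply _ x hx _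
    have hχk : χ.comp κL = RingHom.id k := by
      have h1 : sm (χ.comp κL) = 𝟙 _ := by
        rw [← sm_comp, hχ']; exact pointOfClosedPoint_comp _ _ _
      exact congrArg CommRingCat.Hom.hom
        (Spec.map_injective (h1.trans (Spec.map_id _).symm) : CommRingCat.ofHom _ = 𝟙 _)
    let χA : A →+* k := χ.comp str
    have hχA : ∀ c, χA (algebraMap k A c) = c := fun c => congr($hχk c)
    let t₀ : k := χ (algebraMap A[X] L Polynomial.X)
    have hχ : ∀ z, χ (algebraMap A[X] L z) = (z.map χA).eval t₀ := fun z => by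
      induction z using Polynomial.induction_on' with
      | add a b ha hb => simp [ha, hb]
      | monomial n a =>
        rw [← C_mul_X_pow_eq_monomial, map_mul, map_mul, map_pow, map_pow]
        simp [χA, str, t₀]
    let Qb := QA.map χA
    have hQbc : IsUnit (Qb.eval c₀) := by
      have h := hevu.map χA
      rwa [← eval_map_apply, hχA] at h
    have hQbne : Qb ≠ 0 := fun h0 => hQbc.ne_zero (by rw [h0, eval_zero])
    let Lb := Localization.Away Qb
    let π : L →+* Lb := IsLocalization.Away.lift QA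
      (g := (algebraMap k[X] Lb).comp (mapRingHom χA))
      (IsLocalization.Away.algebraMap_isUnit Qb)
    have hπ : ∀ z, π (algebraMap A[X] L z) = algebraMap k[X] Lb (z.map χA) := fun z =>
      IsLocalization.Away.lift_eq _ _ z
    have ht₀ : IsUnit (Qb.eval t₀) := by
      rw [← hχ]; exact (IsLocalization.Away.algebraMap_isUnit QA).map χ
    let evt : Lb →+* k := IsLocalization.Away.lift Qb (g := evalRingHom t₀) ht₀
    let evc : Lb →+* k := IsLocalization.Away.lift Qb (g := evalRingHom c₀) hQbc
    have hevt : ∀ z, evt (algebraMap k[X] Lb z) = z.eval t₀ := fun z =>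
      IsLocalization.Away.lift_eq _ _ z
    have hevc : ∀ z, evc (algebraMap k[X] Lb z) = z.eval c₀ := fun z =>
      IsLocalization.Away.lift_eq _ _ z
    have e1 : evt.comp π = χ := IsLocalization.ringHom_ext (Submonoid.powers QA)
      (RingHom.ext fun z => by simp only [RingHom.comp_apply, hπ, hevt, hχ])
    have e2 : evc.comp π = χA.comp σ := IsLocalization.ringHom_ext (Submonoid.powers QA)
      (RingHom.ext fun z => by
        simp only [RingHom.comp_apply, hπ, hevc, hσmap]
        rw [← eval_map_apply, hχA])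
    obtain ⟨y, hy⟩ := range_subsingleton_away p h Qb hQbne Lb (sm π ≫ f₁) (by
      rw [Category.assoc, hf₁p, sm_comp]
      congr 1
      refine RingHom.ext fun c => ?_
      show π (algebraMap A[X] L (C (algebraMap k A c))) = _
      rw [hπ, map_C, hχA]; rfl)
    have e3 : sm χ ≫ f₁ = sm evt ≫ sm π ≫ f₁ := by rw [← e1, ← sm_comp, Category.assoc]
    have e4 : sm χ ≫ f₂ = sm evc ≫ sm π ≫ f₁ := by
      simp only [f₂, sm_comp_assoc, e2]
    have y1 : f₁ x = y := by
      rw [← hχx, ← Scheme.Hom.comp_apply, ← hχ', e3, Scheme.Hom.comp_apply]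
      exact hy ⟨_, rfl⟩
    have y2 : f₂ x = y := by
      rw [← hχx, ← Scheme.Hom.comp_apply, ← hχ', e4, Scheme.Hom.comp_apply]
      exact hy ⟨_, rfl⟩
    rw [y1, y2]
  have haL : a = sm ε ≫ f₁ := by
    rw [show sm ε ≫ f₁ = sm (ε.comp φL) ≫ hW.fromSpec from sm_comp_assoc ε φL _, hεφ]
    exact hφ.symm
  refine ⟨sm (algebraMap A F) ≫ sm σ ≫ f₁, ?_, ?_⟩
  · simp only [Category.assoc, hf₁p, sm_comp]
    congr 1
    refine RingHom.ext fun c => ?_
    show algebraMap A F (σ (algebraMap A[X] L (C (algebraMap k A c)))) = _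
    rw [hσmap, eval_C]; rfl
  · rw [haL]
    conv_rhs => rw [hf]
    simp only [f₂, sm_comp_assoc]
    congr 2
    refine RingHom.ext fun z => ?_
    show algebraMap F[X] E (C (algebraMap A F (σ z))) = ε (algebraMap A[X] L (C (σ z)))
    rw [hεmap]
    show _ = algebraMap F[X] E ((C (σ z)).map (algebraMap A F))
    rw [map_C]

/-- `NoRat` for proper schemes over an algebraically closed field without rational curves. -/
theorem noRat_of_noP1 (p : Y ⟶ Spec (CommRingCat.of k)) [IsProper p] (h : NoP1 p) : NoRat p := by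
  intro K _ n s a ha
  letI : Algebra k K := (Spec.preimage s).hom.toAlgebra
  have hs : sm (algebraMap k K) = s := Spec.map_preimage s
  revert ha a
  rw [← hs]
  clear hs
  intro a ha
  induction n with
  | zero =>
    let F := FractionRing (MvPolynomial (Fin 0) K)
    have hb : Function.Bijective (algebraMap K F) := by
      refine ⟨(algebraMap K F).injective, fun z => ?_⟩
      obtain ⟨f, g, -, rfl⟩ := IsFractionRing.div_surjective (A := MvPolynomial (Fin 0) K) z
      obtain ⟨f, rfl⟩ := MvPolynomial.C_surjective (R := K) (Fin 0) f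
      obtain ⟨g, rfl⟩ := MvPolynomial.C_surjective (R := K) (Fin 0) g
      exact ⟨f / g, by rw [map_div₀]; rfl⟩
    haveI : IsIso (CommRingCat.ofHom (algebraMap K F)) := (ConcreteCategory.isIso_iff_bijective _).2 hb
    refine ⟨inv (sm (algebraMap K F)) ≫ a, ?_, IsIso.hom_inv_id_assoc _ _⟩
    rw [Category.assoc, ha, IsIso.inv_hom_id_assoc]
  | succ n ih =>
    let Pn := MvPolynomial (Fin n) K
    let Fn := FractionRing Pn
    let E := FractionRing (MvPolynomial (Fin (n + 1)) K)
    let e := MvPolynomial.finSuccEquiv K n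
    let ψ : Pn[X] →+* E := (algebraMap (MvPolynomial (Fin (n + 1)) K) E).comp e.symm.toAlgHom.toRingHom
    letI : Algebra Pn[X] E := ψ.toAlgebra
    haveI : IsFractionRing Pn[X] E :=
      (IsFractionRing.isFractionRing_iff_of_base_ringEquiv (R := MvPolynomial (Fin (n + 1)) K) E
        e.toRingEquiv).1 inferInstance
    letI : Algebra Pn[X] Fn[X] := (mapRingHom (algebraMap Pn Fn)).toAlgebra
    haveI : IsLocalization ((nonZeroDivisors Pn).map (C : Pn →+* Pn[X])) Fn[X] :=
      Polynomial.isLocalization (nonZeroDivisors Pn) Fn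
    have hinj : Function.Injective ψ := (IsFractionRing.injective Pn[X] E)
    have hu : ∀ y : (nonZeroDivisors Pn).map (C : Pn →+* Pn[X]), IsUnit (ψ y) := by
      rintro ⟨_, r, hr, rfl⟩
      refine isUnit_iff_ne_zero.2 ((map_ne_zero_iff _ hinj).2 ?_)
      exact C_ne_zero.2 (nonZeroDivisors.ne_zero hr)
    letI : Algebra Fn[X] E := (IsLocalization.lift hu).toAlgebra
    haveI : IsScalarTower Pn[X] Fn[X] E := IsScalarTower.of_algebraMap_eq fun z => by
      rw [RingHom.algebraMap_toAlgebra, RingHom.algebraMap_toAlgebra]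
      exact (IsLocalization.lift_eq hu z).symm
    haveI : IsFractionRing Fn[X] E := IsFractionRing.isFractionRing_of_isDomain_of_isLocalization
      ((nonZeroDivisors Pn).map (C : Pn →+* Pn[X])) Fn[X] E
    letI : Algebra k Fn := ((algebraMap K Fn).comp (algebraMap k K)).toAlgebra
    have hKE : ((algebraMap Fn[X] E).comp C).comp (algebraMap K Fn) = algebraMap K E := by
      refine RingHom.ext fun c => ?_
      have h1 : C (algebraMap K Fn c) = algebraMap Pn[X] Fn[X] (C (MvPolynomial.C c)) := by
        rw [RingHom.algebraMap_toAlgebra, coe_mapRingHom, map_C]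
        congr 1
      show algebraMap Fn[X] E (C (algebraMap K Fn c)) = _
      rw [h1, ← IsScalarTower.algebraMap_apply Pn[X] Fn[X] E]
      show algebraMap (MvPolynomial (Fin (n + 1)) K) E (e.symm (C (MvPolynomial.C c))) = _
      rw [show (C (MvPolynomial.C c) : Pn[X]) = algebraMap K Pn[X] c from rfl, e.symm.commutes]
      exact (IsScalarTower.algebraMap_apply K (MvPolynomial (Fin (n + 1)) K) E c).symm
    obtain ⟨c₁, hc₁, hc₁a⟩ := exists_const_one p h Fn E a (by
      rw [ha, ← hKE, ← sm_comp, Category.assoc]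
      congr 1
      exact sm_comp _ _)
    obtain ⟨c, hc, hca⟩ := ih c₁ (by rw [hc₁, sm_comp])
    refine ⟨c, hc, ?_⟩
    rw [← hKE, ← sm_comp, Category.assoc, hca, hc₁a]

end Groth.Agent.H4.RegExt
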