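import Groth.Agent.H4.RegExt.Main
import Groth.Agent.H4.RatExt

/-!
Rational maps from regular schemes into proper schemes without rational curves are everywhere
defined.
-/

set_option autoImplicit false
set_option linter.style.haveILetI false

universe u

open CategoryTheory Limits AlgebraicGeometry TopologicalSpace IsLocalRing
open Groth.Agent.H26.SectionExtend

namespace Groth.Agent.H4.RegExt

variable {S Z T : Scheme.{u}}

/-- The extension near a point. -/
theorem exists_local (p : Z ⟶ S) [IsProper p] (hnr : NoRat p) [IsLocallyNoetherian T] [IsReduced T]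
    (t : T ⟶ S) (V : T.Opens) (hV : Dense (V : Set T)) (s : (V : Scheme.{u}) ⟶ Z)
    (hs : s ≫ p = V.ι ≫ t) (y : T) (hreg : IsRegularLocalRing (T.presheaf.stalk y)) :
    ∃ (U : T.Opens) (g : (U : Scheme.{u}) ⟶ Z), y ∈ U ∧ g ≫ p = U.ι ≫ t ∧
      T.homOfLE (inf_le_left : U ⊓ V ≤ U) ≫ g = T.homOfLE (inf_le_right : U ⊓ V ≤ V) ≫ s := by
  haveI := hreg
  haveI : IsDomain (T.presheaf.stalk y) :=
    Groth.Agent.Lib.Regular.Quotient.isDomain (T.presheaf.stalk y)
  obtain ⟨W, hyW, hW⟩ := exists_integral_nhd y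
  obtain ⟨η, hηV, hηW, hη⟩ := exists_generization V hV y W hyW
  have heη : (T.fromSpecStalk y) (genericPoint (Spec (T.presheaf.stalk y))) ⤳ η := by
    obtain ⟨z, hz⟩ : η ∈ Set.range (T.fromSpecStalk y) := by
      rw [Scheme.range_fromSpecStalk]
      exact hη y hyW
    rw [← hz]
    exact ((genericPoint_spec (Spec (T.presheaf.stalk y))).specializes trivial).map
      (T.fromSpecStalk y).continuous
  have hey : (T.fromSpecStalk y) (genericPoint (Spec (T.presheaf.stalk y))) ⤳ y := heη.trans (hη y hyW)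
  obtain ⟨a, ha⟩ := exists_lift_opens (genMap (T.presheaf.stalk y) ≫ T.fromSpecStalk y) V fun z => by
    rw [Scheme.Hom.comp_apply, genMap_apply]
    exact heη.mem_open V.2 hηV
  obtain ⟨φ, hφf, hφg⟩ := @exists_lift_regular _ _ p _ hnr (T.presheaf.stalk y) _ hreg
    (FractionRing (T.presheaf.stalk y)) _ _ _ (T.fromSpecStalk y ≫ t) (a ≫ s)
    (by rw [Category.assoc, hs, reassoc_of% ha])
  obtain ⟨U₀, hyU₀, g₀, hg₀, hg₀f⟩ := spread_out_of_isGermInjective' t p (x := y) φ hφf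
  refine ⟨U₀ ⊓ W, T.homOfLE inf_le_left ≫ g₀, ⟨hyU₀, hyW⟩, by simp [hg₀f], ?_⟩
  set T' := U₀ ⊓ W ⊓ V
  obtain ⟨c, hc⟩ := exists_lift_opens (genMap (T.presheaf.stalk y) ≫ T.fromSpecStalk y) T' fun z => by
    rw [Scheme.Hom.comp_apply, genMap_apply]
    exact ⟨⟨hey.mem_open U₀.2 hyU₀, heη.mem_open W.2 hηW⟩, heη.mem_open V.2 hηV⟩
  have : IsDominant c := by
    rw [isDominant_iff]
    intro w
    have h1 : c (IsLocalRing.closedPoint _) ⤳ w := by
      apply T'.ι.isEmbedding.isInducing.specializes_iff.mp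
      change (c ≫ T'.ι) _ ⤳ _
      rw [hc, Scheme.Hom.comp_apply, genMap_apply]
      exact heη.trans (hη w.1 w.2.1.2)
    exact (specializes_iff_mem_closure.mp h1) |> closure_mono (by rintro _ rfl; exact ⟨_, rfl⟩)
  refine ext_of_isDominant_of_isSeparated p ?_ c ?_
  · simp only [Category.assoc, hg₀f, hs, Scheme.homOfLE_ι_assoc]
  · have h1 : c ≫ T.homOfLE (inf_le_left : T' ≤ U₀ ⊓ W) ≫ T.homOfLE inf_le_left =
        genMap (T.presheaf.stalk y) ≫ U₀.fromSpecStalkOfMem y hyU₀ := by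
      rw [← cancel_mono U₀.ι]
      simp only [Category.assoc, Scheme.homOfLE_ι, hc, Scheme.Opens.fromSpecStalkOfMem_ι]
    have h2 : c ≫ T.homOfLE (inf_le_right : T' ≤ V) = a := by
      rw [← cancel_mono V.ι, Category.assoc, Scheme.homOfLE_ι, hc, ha]
    rw [reassoc_of% h1, ← hg₀, reassoc_of% h2]
    exact hφg

/-- A rational map from a regular scheme to a proper scheme without rational curves is a morphism. -/
theorem existsUnique_extension (p : Z ⟶ S) [IsProper p] (hnr : NoRat p) [IsLocallyNoetherian T]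
    (hT : ∀ y : T, IsRegularLocalRing (T.presheaf.stalk y)) (t : T ⟶ S) (V : T.Opens)
    (hV : Dense (V : Set T)) (s : (V : Scheme.{u}) ⟶ Z) (hs : s ≫ p = V.ι ≫ t) :
    ∃! g : T ⟶ Z, g ≫ p = t ∧ V.ι ≫ g = s := by
  haveI : IsReduced T :=
    haveI : ∀ x : T, _root_.IsReduced (T.presheaf.stalk x) := fun x =>
      haveI := hT x
      haveI := Groth.Agent.Lib.Regular.Quotient.isDomain (T.presheaf.stalk x)
      inferInstance
    isReduced_of_isReduced_stalk T
  haveI hd : IsDominant V.ι := ⟨by rw [DenseRange, Scheme.Opens.range_ι]; exact hV⟩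
  suffices h : ∃ g : T ⟶ Z, g ≫ p = t ∧ V.ι ≫ g = s by
    obtain ⟨g, hg⟩ := h
    exact ⟨g, hg, fun g' hg' => ext_of_isDominant_of_isSeparated p (hg'.1.trans hg.1.symm) V.ι
      (hg'.2.trans hg.2.symm)⟩
  choose U g hyU hgf hgs using fun y => exists_local p hnr t V hV s hs y (hT y)
  let F : Option T → T.Opens := fun o => o.elim V U
  let G : ∀ o, (F o : Scheme.{u}) ⟶ Z := fun
    | none => s
    | some y => g y
  have hG : ∀ o, G o ≫ p = (F o).ι ≫ t := fun
    | none => hs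
    | some y => hgf y
  have hGs : ∀ o, T.homOfLE (inf_le_left : F o ⊓ V ≤ F o) ≫ G o =
      T.homOfLE (inf_le_right : F o ⊓ V ≤ V) ≫ s := fun
    | none => rfl
    | some y => hgs y
  obtain ⟨s', hs'⟩ := exists_glue F G fun i j => by
    haveI : IsDominant (T.homOfLE (inf_le_left : F i ⊓ F j ⊓ V ≤ F i ⊓ F j)) := by
      rw [isDominant_iff]
      have h1 : Dense (Subtype.val ⁻¹' (V : Set T) : Set (F i ⊓ F j : T.Opens)) :=
        hV.preimage (F i ⊓ F j).2.isOpenEmbedding_subtypeVal.isOpenMap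
      refine h1.mono ?_
      intro w hw
      refine ⟨⟨w.1, w.2, hw⟩, Subtype.ext ?_⟩
      change (T.homOfLE (inf_le_left : F i ⊓ F j ⊓ V ≤ F i ⊓ F j) ≫ (F i ⊓ F j).ι) _ = _
      rw [Scheme.homOfLE_ι]
      rfl
    refine ext_of_isDominant_of_isSeparated p (by simp [hG])
      (T.homOfLE (inf_le_left : F i ⊓ F j ⊓ V ≤ F i ⊓ F j)) ?_
    have hi := congrArg (T.homOfLE (show F i ⊓ F j ⊓ V ≤ F i ⊓ V from
      inf_le_inf_right _ inf_le_left) ≫ ·) (hGs i)
    have hj := congrArg (T.homOfLE (show F i ⊓ F j ⊓ V ≤ F j ⊓ V from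
      inf_le_inf_right _ inf_le_right) ≫ ·) (hGs j)
    simp only [Scheme.homOfLE_homOfLE_assoc] at hi hj ⊢
    rw [hi, hj]
  have htop : ⨆ o, F o = ⊤ := eq_top_iff.2 fun y _ => Opens.mem_iSup.mpr ⟨some y, hyU y⟩
  have hι : ∀ o, T.homOfLE (le_iSup F o) ≫ (⨆ o, F o).ι = (F o).ι := fun o => Scheme.homOfLE_ι _ _
  have hp : s' ≫ p = (⨆ o, F o).ι ≫ t := by
    refine Scheme.Cover.hom_ext (Scheme.Opens.iSupOpenCover F) _ _ fun o => ?_
    change T.homOfLE (le_iSup F o) ≫ s' ≫ p = T.homOfLE (le_iSup F o) ≫ (⨆ o, F o).ι ≫ t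
    rw [← Category.assoc, hs' o, hG o, Scheme.homOfLE_ι_assoc]
  haveI : IsIso (⨆ o, F o).ι := by
    haveI : Surjective (⨆ o, F o).ι := ⟨fun y => by
      obtain ⟨z, hz⟩ : y ∈ Set.range (⨆ o, F o).ι := by
        rw [Scheme.Opens.range_ι, htop]; trivial
      exact ⟨z, hz⟩⟩
    exact (isIso_iff_isOpenImmersion_and_surjective _).mpr ⟨inferInstance, inferInstance⟩
  refine ⟨inv (⨆ o, F o).ι ≫ s', ?_, ?_⟩
  · rw [Category.assoc, hp, IsIso.inv_hom_id_assoc]
  · show (F none).ι ≫ _ = s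
    rw [← hι none, Category.assoc, IsIso.hom_inv_id_assoc]
    exact hs' none

end Groth.Agent.H4.RegExt
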